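import Groth.Agent.EtSect.Locus
import Groth.Agent.ClSubLib.Basic
import Groth.Prelude.Def_EtShriek2
import Mathlib

/-!
Supports of sections; sections with proper support form a subgroup.
-/

set_option autoImplicit false
set_option backward.isDefEq.respectTransparency false

universe u

open CategoryTheory CategoryTheory.Limits AlgebraicGeometry Opposite

namespace Groth.Agent.ShriekLQF

open Groth.Agent.EtSect

variable {X Y : Scheme.{u}} (F : EtCoh.Ab X)

theorem sectSupp_zero (U : X.Etale) : EtShriek.sectSupp F U 0 = ∅ :=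
  Set.eq_empty_iff_forall_notMem.mpr fun x h => h U (𝟙 U) ⟨x, rfl⟩ (map_zero _)

theorem sectSupp_neg (U : X.Etale) (s : EtCoh.sect F U) :
    EtShriek.sectSupp F U (-s) = EtShriek.sectSupp F U s := by
  ext x
  simp [EtShriek.sectSupp]

theorem sectSupp_add_subset (U : X.Etale) (s t : EtCoh.sect F U) :
    EtShriek.sectSupp F U (s + t) ⊆ EtShriek.sectSupp F U s ∪ EtShriek.sectSupp F U t := by
  intro x hx
  by_contra h
  rw [Set.mem_union, not_or] at h
  obtain ⟨W, g, ⟨w, hw⟩, hg⟩ := (mem_iff F s x).mp h.1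
  obtain ⟨W', g', ⟨w', hw'⟩, hg'⟩ := (mem_iff F t x).mp h.2
  obtain ⟨P, a, b, hab, hP⟩ := exists_pullback g g'
  obtain ⟨p, hp⟩ := hP w w' (hw.trans hw'.symm)
  refine hx P (a ≫ g) ⟨p, by
    change g.left (a.left p) = x
    rw [hp, hw]⟩ ?_
  have e1 : F.obj.map (a ≫ g).op s = 0 := by
    rw [op_comp, Functor.map_comp, ConcreteCategory.comp_apply, hg, map_zero]
  have e2 : F.obj.map (a ≫ g).op t = 0 := by
    rw [hab, op_comp, Functor.map_comp, ConcreteCategory.comp_apply, hg', map_zero]
  rw [map_add, e1, e2, add_zero]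

theorem sectSupp_map {U U' : X.Etale} (g : U' ⟶ U) (s : EtCoh.sect F U) :
    EtShriek.sectSupp F U' (F.obj.map g.op s) = g.left ⁻¹' EtShriek.sectSupp F U s := by
  ext x
  rw [Set.mem_preimage, ← not_iff_not, mem_iff, mem_iff]
  constructor
  · rintro ⟨W, a, ⟨w, hw⟩, h⟩
    refine ⟨W, a ≫ g, ⟨w, by change g.left (a.left w) = _; rw [hw]⟩, ?_⟩
    rw [op_comp, Functor.map_comp, ConcreteCategory.comp_apply, h]
  · rintro ⟨W, a, ⟨w, hw⟩, h⟩
    obtain ⟨P, b, c, hbc, hP⟩ := exists_pullback g a
    obtain ⟨p, hp⟩ := hP x w hw.symm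
    refine ⟨P, b, ⟨p, hp⟩, ?_⟩
    rw [← ConcreteCategory.comp_apply, ← Functor.map_comp, ← op_comp, hbc, op_comp, Functor.map_comp,
      ConcreteCategory.comp_apply, h, map_zero]

variable (f : X ⟶ Y)

theorem hasProperSupport_iff (U : X.Etale) (s : EtCoh.sect F U) {S : Scheme.{u}} (g : U.left ⟶ S) :
    EtShriek.HasProperSupport F U s g ↔ ClSub.IsProperOver g (EtShriek.sectSupp F U s) :=
  ⟨fun ⟨_, hZ, hp⟩ => ClSubLib.mono hp (isClosed_sectSupp F s) hZ, fun h => ⟨_, subset_rfl, h⟩⟩

theorem shriekPred_iff (V : Y.Etale) (s : EtCoh.sect F ((EtCoh.bc f).obj V)) :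
    EtShriek.ShriekPred f F V s ↔ EtShriek.HasProperSupport F _ s (EtShriek.prV f V) := by
  constructor
  · intro h
    have := h V (𝟙 V)
    simpa using this
  · intro h V' φ
    rw [hasProperSupport_iff, sectSupp_map]
    exact ClSubLib.isProperOver_baseChange (EtCoh.isPullback_bc_map f φ)
      ((hasProperSupport_iff F _ s _).mp h)

theorem mem_shriekSubgroup_iff [LocallyOfFiniteType f] (V : Y.Etale) (s : EtCoh.sect F ((EtCoh.bc f).obj V)) :
    s ∈ EtShriek.shriekSubgroup f F V ↔
      ClSub.IsProperOver (EtShriek.prV f V) (EtShriek.sectSupp F _ s) := by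
  haveI : LocallyOfFiniteType (EtShriek.prV f V) := MorphismProperty.pullback_fst _ _ ‹_›
  rw [← hasProperSupport_iff]
  constructor
  · intro h
    induction h using AddSubgroup.closure_induction with
    | mem x hx => exact (shriekPred_iff F f V x).mp hx
    | zero =>
      rw [hasProperSupport_iff, sectSupp_zero]
      exact ClSubLib.isProperOver_empty _
    | add x y _ _ hx hy =>
      rw [hasProperSupport_iff] at hx hy ⊢
      exact ClSubLib.mono (ClSubLib.isProperOver_union _ hx hy) (isClosed_sectSupp F _)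
        (sectSupp_add_subset F _ x y)
    | neg x _ hx =>
      rw [hasProperSupport_iff, sectSupp_neg]
      exact (hasProperSupport_iff F _ x _).mp hx
  · exact fun h => AddSubgroup.subset_closure ((shriekPred_iff F f V s).mpr h)

end Groth.Agent.ShriekLQF
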