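import Groth.Agent.ShriekLQF.Exact
import Groth.Agent.EtShriekStalk.ToPush
import Mathlib

/-!
For a separated étale morphism, extension by zero is the direct image with proper support.
-/

set_option autoImplicit false
set_option backward.isDefEq.respectTransparency false
set_option linter.style.haveILetI false

universe u

open CategoryTheory CategoryTheory.Limits AlgebraicGeometry Opposite

namespace Groth.Agent.ShriekLQF

open Groth.Agent.EtShriekStalk

/-- direct image with proper support embeds into the direct image -/
theorem mono_lowerShriekToPush {X Y : Scheme.{u}} (f : X ⟶ Y) [IsSeparated f] [LocallyOfFiniteType f]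
    [LocallyQuasiFinite f] (F : EtCoh.Ab X) : Mono (EtShriek.lowerShriekToPush f F) := by
  haveI : Sheaf.IsLocallyInjective (EtShriek.lowerShriekToPush f F) :=
    Groth.Agent.EtStalk.isLocallyInjective_of_covers (EtShriek.lowerShriekToPush f F).hom covers_algClosed
      fun Ω _ _ η hΩ => by
        haveI : IsAlgClosed Ω := hΩ
        change Function.Injective ((EtCoh.stalk η).map (EtShriek.lowerShriekToPush f F))
        rw [injective_iff_map_eq_zero]
        refine fun z hz => eq_zero_of_comp f η F z fun ξ => ?_
        rw [comp, ConcreteCategory.comp_apply, hz, map_zero]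
  exact Sheaf.mono_of_isLocallyInjective _

variable {U X : Scheme.{u}} (j : U ⟶ X) [Etale j] [IsSeparated j] [EtShriek.JCont j]

theorem extMap_mem (F : EtCoh.Ab U) (W : U.Etale) (t : EtCoh.sect F W) :
    extMap j F W t ∈ EtShriek.shriekSubgroup j F ((EtShriek.compEtale j).obj W) := by
  rw [mem_shriekSubgroup_iff]
  haveI : IsProper (graph' j W ≫ pullback.fst (W.hom ≫ j) j) := by rw [graph'_fst]; infer_instance
  refine ClSubLib.isProperOver_of_subset (pullback.fst (W.hom ≫ j) j) (graph' j W) _
    (Groth.Agent.EtSect.isClosed_sectSupp F _) fun x hx => ?_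
  let x' : (pullback (W.hom ≫ j) j : Scheme.{u}) := x
  by_contra hne
  exact (Groth.Agent.EtSect.map_eq_zero_iff F (extMap j F W t) (complIncl j W)).mp (extMap_compl j F W t)
    ⟨(⟨x', hne⟩ : compl j W), rfl⟩ hx

/-- a section extended by zero off the graph, as a section with proper support -/
noncomputable def toShriekSect (F : EtCoh.Ab U) (W : U.Etale) :
    F.obj.obj (op W) ⟶ (EtShriek.lowerShriekPre j F).obj (op ((EtShriek.compEtale j).obj W)) :=
  AddCommGrpCat.ofHom ((extMap j F W).codRestrict _ (extMap_mem j F W))

/-- `F ⟶ j^{-1} j_! F` -/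
noncomputable def unitMap (F : EtCoh.Ab U) :
    F ⟶ (EtShriek.restrAlong j).obj ((EtShriek.lowerShriek j).obj F) :=
  ⟨{ app := fun W => toShriekSect j F W.unop ≫
        (toSheafify X.smallEtaleTopology (EtShriek.lowerShriekPre j F)).app (op ((EtShriek.compEtale j).obj W.unop))
     naturality := fun {W W'} m => by
        have h1 : F.obj.map m ≫ toShriekSect j F W'.unop =
            toShriekSect j F W.unop ≫ (EtShriek.lowerShriekPre j F).map ((EtShriek.compEtale j).map m.unop).op := by
          ext t
          exact Subtype.ext (extMap_natural j F m.unop t)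
        have h2 := (toSheafify X.smallEtaleTopology (EtShriek.lowerShriekPre j F)).naturality
          ((EtShriek.compEtale j).map m.unop).op
        rw [← Category.assoc, h1, Category.assoc, h2, ← Category.assoc]
        rfl }⟩

theorem unitMap_toPush (F : EtCoh.Ab U) :
    unitMap j F ≫ (EtShriek.restrAlong j).map (EtShriek.lowerShriekToPush j F) = (graphMap j).app F := by
  refine Sheaf.hom_ext (NatTrans.ext (funext fun W => ?_))
  change (toShriekSect j F W.unop ≫ _) ≫ (EtShriek.lowerShriekToPush j F).hom.app _ = _
  rw [Category.assoc]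
  have e := congrArg (fun k => k.app (op ((EtShriek.compEtale j).obj W.unop)))
    (toSheafify_sheafifyLift X.smallEtaleTopology (EtShriek.lowerShriekPreι j F) ((EtCoh.push j).obj F).property)
  refine (congrArg (toShriekSect j F W.unop ≫ ·) e).trans ?_
  rfl

/-- the comparison map -/
noncomputable def cmp (F : EtCoh.Ab U) : (EtShriek.extZero j).obj F ⟶ (EtShriek.lowerShriek j).obj F :=
  ((EtShriek.extZeroAdj j).homEquiv _ _).symm (unitMap j F)

theorem cmp_toPush (F : EtCoh.Ab U) :
    cmp j F ≫ EtShriek.lowerShriekToPush j F = (EtShriekStalk.toPush j).app F := by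
  rw [cmp, ← Adjunction.homEquiv_naturality_right_symm, unitMap_toPush]
  rfl

theorem isIso_cmp (F : EtCoh.Ab U) : IsIso (cmp j F) := by
  classical
  haveI := Groth.Agent.FpqcDescent.locallyQuasiFinite_of_etale j
  haveI : Mono (cmp j F) := by
    have : Mono (cmp j F ≫ EtShriek.lowerShriekToPush j F) := by rw [cmp_toPush]; exact EtShriekStalk.mono_toPush j F
    exact mono_of_mono (cmp j F) (EtShriek.lowerShriekToPush j F)
  haveI : Sheaf.IsLocallySurjective (cmp j F) :=
    Groth.Agent.EtStalk.isLocallySurjective_of_covers (cmp j F).hom covers_algClosed fun Ω _ _ η hΩ => by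
      haveI : IsAlgClosed Ω := hΩ
      change Function.Surjective ((EtCoh.stalk η).map (cmp j F))
      intro z
      let S := (finite_support j η F z).toFinset
      refine ⟨S.sum fun k => incl j η F k (comp j η F k z), ?_⟩
      rw [← sub_eq_zero]
      refine eq_zero_of_comp j η F _ fun k => ?_
      rw [map_sub, sub_eq_zero, map_sum, map_sum]
      have hk : ∀ i a, comp j η F k ((EtCoh.stalk η).map (cmp j F) (incl j η F i a)) =
          toLift j η F k ((EtCoh.stalk η).map ((EtShriekStalk.toPush j).app F) (incl j η F i a)) := fun i a => by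
        rw [← cmp_toPush, Functor.map_comp, comp, ConcreteCategory.comp_apply, ConcreteCategory.comp_apply]
        rfl
      rw [Finset.sum_eq_single k (fun i _ hne => by rw [hk]; exact incl_toPush_ne j η F i k hne _) (fun hkS => by
        rw [hk, incl_toPush_lift]
        by_contra hne
        exact hkS ((finite_support j η F z).mem_toFinset.mpr hne))]
      rw [hk, incl_toPush_lift]
  haveI : Epi (cmp j F) := inferInstance
  exact isIso_of_mono_of_epi _

theorem nonempty_extZero_iso_lowerShriek : Nonempty (EtShriek.extZero j ≅ EtShriek.lowerShriek j) := by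
  haveI := Groth.Agent.FpqcDescent.locallyQuasiFinite_of_etale j
  haveI := isIso_cmp j
  refine ⟨NatIso.ofComponents (fun F => asIso (cmp j F)) fun {F G} m => ?_⟩
  haveI := mono_lowerShriekToPush j G
  show (EtShriek.extZero j).map m ≫ cmp j G = cmp j F ≫ (EtShriek.lowerShriek j).map m
  rw [← cancel_mono (EtShriek.lowerShriekToPush j G), Category.assoc, Category.assoc, toPush_natural, cmp_toPush,
    ← Category.assoc, cmp_toPush]
  exact (EtShriekStalk.toPush j).naturality m

end Groth.Agent.ShriekLQF
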