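import Groth.Agent.ShriekLQF.Range
import Groth.Agent.ShriekLQF.Etale
import Mathlib

/-!
Direct image with proper support through a compactification.
-/

set_option autoImplicit false
set_option backward.isDefEq.respectTransparency false
set_option linter.style.haveILetI false

universe u

open CategoryTheory CategoryTheory.Limits AlgebraicGeometry Opposite

namespace Groth.Agent.ShriekLQF

theorem isProperOver_comp_iff {P Q S : Scheme.{u}} (p : P ⟶ Q) [LocallyOfFiniteType p] (q : Q ⟶ S) [IsProper q]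
    (C : Set P) : ClSub.IsProperOver (p ≫ q) C ↔ ClSub.IsProperOver p C := by
  constructor
  · rintro ⟨hc, hp⟩
    refine ⟨hc, ?_⟩
    haveI : IsProper ((ClSubLib.redι C hc ≫ p) ≫ q) := by rw [Category.assoc]; exact hp
    exact IsProper.of_comp (ClSubLib.redι C hc ≫ p) q
  · rintro ⟨hc, hp⟩
    refine ⟨hc, ?_⟩
    haveI : IsProper (ClSubLib.redι C hc ≫ p) := hp
    rw [← Category.assoc]
    infer_instance

variable {X Z Y : Scheme.{u}} (j : X ⟶ Z) (fb : Z ⟶ Y)

/-- comparison of the two base changes -/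
noncomputable def bcComp : EtCoh.bc (j ≫ fb) ≅ EtCoh.bc fb ⋙ EtCoh.bc j :=
  MorphismProperty.Over.pullbackComp (P := EtCoh.etaleMP) (Q := ⊤) j fb

theorem bcComp_prV (V : Y.Etale) :
    ((bcComp j fb).hom.app V).left ≫ EtShriek.prV j ((EtCoh.bc fb).obj V) ≫ EtShriek.prV fb V =
      EtShriek.prV (j ≫ fb) V :=
  MorphismProperty.Over.pullbackComp_left_fst_fst (P := EtCoh.etaleMP) (Q := ⊤) j fb V

theorem proper_transport [LocallyOfFiniteType j] [IsProper fb] (F : EtCoh.Ab X) (V : Y.Etale)
    (t : EtCoh.sect F ((EtCoh.bc j).obj ((EtCoh.bc fb).obj V))) :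
    ClSub.IsProperOver (EtShriek.prV j ((EtCoh.bc fb).obj V)) (EtShriek.sectSupp F _ t) ↔
      ClSub.IsProperOver (EtShriek.prV (j ≫ fb) V)
        (EtShriek.sectSupp F ((EtCoh.bc (j ≫ fb)).obj V) (F.obj.map ((bcComp j fb).hom.app V).op t)) := by
  haveI : IsProper (EtShriek.prV fb V) := MorphismProperty.pullback_fst _ _ ‹_›
  haveI : LocallyOfFiniteType (EtShriek.prV j ((EtCoh.bc fb).obj V)) := MorphismProperty.pullback_fst _ _ ‹_›
  let E : ((EtCoh.bc (j ≫ fb)).obj V).left ≅ ((EtCoh.bc j).obj ((EtCoh.bc fb).obj V)).left :=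
    (MorphismProperty.Over.forget EtCoh.etaleMP ⊤ X ⋙ Over.forget X).mapIso ((bcComp j fb).app V)
  rw [← isProperOver_comp_iff (EtShriek.prV j ((EtCoh.bc fb).obj V)) (EtShriek.prV fb V), sectSupp_map]
  constructor
  · intro h
    exact ClSubLib.isProperOver_preimage E.hom (bcComp_prV j fb V) h
  · intro h
    have h' := ClSubLib.isProperOver_preimage (p := EtShriek.prV j ((EtCoh.bc fb).obj V) ≫ EtShriek.prV fb V) E.inv
      (by rw [← bcComp_prV j fb V]; exact E.inv_hom_id_assoc _) h
    convert h' using 1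
    ext x
    simp only [Set.mem_preimage]
    rw [show ((bcComp j fb).hom.app V).left (E.inv x) = x from congr($(E.inv_hom_id) x)]
    rfl

theorem pushComp_app (F : EtCoh.Ab X) (V : Y.Etale) :
    ((EtCoh.pushComp fb j).hom.app F).hom.app (op V) = F.obj.map ((bcComp j fb).hom.app V).op := by
  simp [EtCoh.pushComp, Functor.sheafPushforwardContinuousComp', Functor.sheafPushforwardContinuousIso,
    Functor.sheafPushforwardContinuousComp, bcComp]

theorem nonempty_lowerShriek_comp [LocallyOfFiniteType j] [IsProper fb] :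
    Nonempty (EtShriek.lowerShriek (j ≫ fb) ≅ EtShriek.lowerShriek j ⋙ EtCoh.push fb) := by
  let tp : EtShriek.lowerShriek j ⟶ EtCoh.push j :=
    { app := EtShriek.lowerShriekToPush j
      naturality := fun _ _ m => toPush_natural j m }
  let a : EtShriek.lowerShriek (j ≫ fb) ⟶ EtCoh.push (j ≫ fb) :=
    { app := EtShriek.lowerShriekToPush (j ≫ fb)
      naturality := fun _ _ m => toPush_natural (j ≫ fb) m }
  let b : EtShriek.lowerShriek j ⋙ EtCoh.push fb ⟶ EtCoh.push (j ≫ fb) :=
    Functor.whiskerRight tp (EtCoh.push fb) ≫ (EtCoh.pushComp fb j).hom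
  haveI : ∀ F, Mono (a.app F) := fun F => mono_toPush _ F
  haveI : ∀ F, Mono (b.app F) := fun F => by
    haveI := mono_toPush j F
    haveI : (EtCoh.push fb).PreservesMonomorphisms :=
      (EtCoh.push fb).preservesMonomorphisms_of_adjunction (EtCoh.pullPushAdj fb)
    change Mono ((EtCoh.push fb).map (EtShriek.lowerShriekToPush j F) ≫ (EtCoh.pushComp fb j).hom.app F)
    infer_instance
  refine nonempty_natIso a b fun F V s => ?_
  refine Iff.trans (range_toPush (j ≫ fb) F V s) ?_
  let e := (bcComp j fb).app V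
  have key : ∀ z, (b.app F).hom.app (op V) z =
      F.obj.map e.hom.op ((EtShriek.lowerShriekToPush j F).hom.app (op ((EtCoh.bc fb).obj V)) z) := fun z =>
    ConcreteCategory.congr_hom (pushComp_app j fb F V) _
  constructor
  · intro hs
    have hinv : F.obj.map e.hom.op (F.obj.map e.inv.op s) = s := by
      rw [← ConcreteCategory.comp_apply, ← Functor.map_comp, ← op_comp, e.hom_inv_id, op_id,
        CategoryTheory.Functor.map_id]
      rfl
    obtain ⟨z, hz⟩ := (range_toPush j F _ (F.obj.map e.inv.op s)).mpr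
      ((proper_transport j fb F V _).mpr (hinv.symm ▸ hs))
    exact ⟨z, by rw [key, hz, hinv]⟩
  · rintro ⟨z, rfl⟩
    rw [key]
    exact (proper_transport j fb F V _).mp ((range_toPush j F _ _).mp ⟨z, rfl⟩)

end Groth.Agent.ShriekLQF
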