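import Groth.Agent.ShriekLQF.Support
import Groth.Agent.FpqcDescent.Sep
import Mathlib

/-!
Sections with proper support form a sheaf; the inclusion in the direct image is a monomorphism.
-/

set_option autoImplicit false
set_option backward.isDefEq.respectTransparency false
set_option linter.style.haveILetI false

universe u

open CategoryTheory CategoryTheory.Limits AlgebraicGeometry Opposite MorphismProperty

namespace Groth.Agent.ShriekLQF

theorem descendsAlong_isProper :
    DescendsAlong @IsProper (@Surjective ⊓ @Flat ⊓ @LocallyOfFinitePresentation : MorphismProperty Scheme.{u}) := by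
  rw [isProper_eq]
  infer_instance

/-- properness of a closed subset can be checked etale locally on the base -/
theorem isProperOver_of_etale_cover {P V : Scheme.{u}} (p : P ⟶ V) [LocallyOfFiniteType p] {C : Set P}
    (hC : IsClosed C) {J : Type u} {W : J → Scheme.{u}} (g : ∀ j, W j ⟶ V) [∀ j, Etale (g j)]
    (hcov : ∀ v : V, ∃ j, v ∈ Set.range (g j)) {P' : J → Scheme.{u}} (g' : ∀ j, P' j ⟶ P)
    (p' : ∀ j, P' j ⟶ W j) (sq : ∀ j, IsPullback (g' j) (p' j) p (g j))
    (hp : ∀ j, ClSub.IsProperOver (p' j) ((g' j) ⁻¹' C)) : ClSub.IsProperOver p C := by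
  refine ⟨hC, ?_⟩
  let i := ClSubLib.redι C hC
  change IsProper (i ≫ p)
  let q : (∐ W) ⟶ V := Sigma.desc g
  have hq : ∀ j, Sigma.ι W j ≫ q = g j := fun j => Sigma.ι_desc _ _
  haveI : Etale q := IsZariskiLocalAtSource.sigmaDesc fun j => inferInstance
  haveI : Surjective q := ⟨fun v => by
    obtain ⟨j, w, rfl⟩ := hcov v
    exact ⟨Sigma.ι W j w, by rw [← Scheme.Hom.comp_apply, hq]⟩⟩
  haveI := descendsAlong_isProper.{u}
  suffices IsProper (pullback.snd (i ≫ p) q) from
    MorphismProperty.of_isPullback_of_descendsAlong (P := @IsProper)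
      (Q := (@Surjective ⊓ @Flat ⊓ @LocallyOfFinitePresentation : MorphismProperty Scheme.{u}))
      (IsPullback.of_hasPullback (i ≫ p) q).flip ⟨⟨inferInstance, inferInstance⟩, inferInstance⟩ this
  refine (IsZariskiLocalAtTarget.iff_of_openCover (P := @IsProper) (sigmaOpenCover W)).mpr fun j => ?_
  let c : W j ⟶ ∐ W := Sigma.ι W j
  change IsProper (pullback.snd (pullback.snd (i ≫ p) q) c)
  let T := pullback (i ≫ p) (g j)
  let k : T ⟶ P' j := (sq j).lift (pullback.fst _ _ ≫ i) (pullback.snd _ _)
    (by rw [Category.assoc, pullback.condition])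
  have hk1 : k ≫ g' j = pullback.fst (i ≫ p) (g j) ≫ i := IsPullback.lift_fst _ _ _ _
  have hk2 : k ≫ p' j = pullback.snd (i ≫ p) (g j) := IsPullback.lift_snd _ _ _ _
  have hkpb : IsPullback (pullback.fst (i ≫ p) (g j)) k i (g' j) := by
    refine IsPullback.of_bot ?_ hk1.symm (sq j)
    rw [hk2]
    exact IsPullback.of_hasPullback _ _
  haveI : IsClosedImmersion k := MorphismProperty.of_isPullback (P := @IsClosedImmersion) hkpb inferInstance
  haveI : LocallyOfFiniteType (p' j) := MorphismProperty.of_isPullback (P := @LocallyOfFiniteType) (sq j) ‹_›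
  haveI : IsProper (pullback.snd (i ≫ p) (g j)) := by
    rw [← hk2]
    refine ClSubLib.isProper_comp (p' j) k (hp j) ?_
    rintro _ ⟨t, rfl⟩
    show g' j (k t) ∈ C
    rw [← Scheme.Hom.comp_apply, hk1, Scheme.Hom.comp_apply]
    exact (ClSubLib.range_redι C hC).le ⟨_, rfl⟩
  have e : IsPullback (pullback.fst (pullback.snd (i ≫ p) q) c ≫ pullback.fst (i ≫ p) q)
      (pullback.snd (pullback.snd (i ≫ p) q) c) (i ≫ p) (g j) := by
    rw [← hq j]
    exact (IsPullback.of_hasPullback _ c).paste_horiz (IsPullback.of_hasPullback (i ≫ p) q)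
  rw [← e.isoPullback_hom_snd]
  infer_instance

variable {X Y : Scheme.{u}} (f : X ⟶ Y) [LocallyOfFiniteType f] (F : EtCoh.Ab X)

theorem isSheaf_lowerShriekPre : Presheaf.IsSheaf Y.smallEtaleTopology (EtShriek.lowerShriekPre f F) := by
  refine Presheaf.isSheaf_of_isSheaf_comp Y.smallEtaleTopology _ (forget AddCommGrpCat.{u + 1}) ?_
  rw [isSheaf_iff_isSheaf_of_type]
  intro V S hS x hx
  have hpush := (isSheaf_iff_isSheaf_of_type _ _).mp
    ((sheafCompose Y.smallEtaleTopology (forget AddCommGrpCat.{u + 1})).obj ((EtCoh.push f).obj F)).property S hS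
  let x' : Presieve.FamilyOfElements (((EtCoh.push f).obj F).obj ⋙ forget AddCommGrpCat.{u + 1}) S.arrows :=
    fun W g hg => (x g hg).1
  have hx' : x'.Compatible := fun W₁ W₂ Z g₁ g₂ f₁ f₂ h₁ h₂ e => congrArg Subtype.val (hx g₁ g₂ h₁ h₂ e)
  obtain ⟨s, hs, huniq⟩ := hpush x' hx'
  have hmem : (s : EtCoh.sect F ((EtCoh.bc f).obj V)) ∈ EtShriek.shriekSubgroup f F V := by
    have eY : Y.smallEtaleTopology = (Y.smallPretopology (P := EtCoh.etaleMP) (Q := EtCoh.etaleMP)).toGrothendieck :=
      Scheme.smallGrothendieckTopology_eq_toGrothendieck_smallPretopology Y le_rfl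
    have hS' := (Scheme.mem_toGrothendieck_smallPretopology V S).1 (eY ▸ hS)
    choose W g w hg hget hw using hS'
    haveI : LocallyOfFiniteType (EtShriek.prV f V) := MorphismProperty.pullback_fst _ _ ‹_›
    rw [mem_shriekSubgroup_iff]
    haveI : ∀ v, Etale (g v).left := hget
    refine isProperOver_of_etale_cover (EtShriek.prV f V) (Groth.Agent.EtSect.isClosed_sectSupp F _)
      (fun v => (g v).left) (fun v => ⟨v, w v, hw v⟩)
      (fun v => ((EtCoh.bc f).map (g v)).left) (fun v => EtShriek.prV f (W v))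
      (fun v => EtCoh.isPullback_bc_map f (g v)) fun v => ?_
    rw [← sectSupp_map]
    have e : F.obj.map ((EtCoh.bc f).map (g v)).op s = (x (g v) (hg v)).1 := hs (g v) (hg v)
    rw [e]
    exact (mem_shriekSubgroup_iff F f _ _).mp (x (g v) (hg v)).2
  refine ⟨⟨s, hmem⟩, fun W g hg => Subtype.ext (hs g hg), fun t ht => Subtype.ext ?_⟩
  exact huniq t.1 fun W g hg => congrArg Subtype.val (ht g hg)

omit [LocallyOfFiniteType f] in
theorem mono_toPush : Mono (EtShriek.lowerShriekToPush f F) := by
  haveI : ∀ V, Mono ((EtShriek.lowerShriekPreι f F).app V) := fun V =>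
    (AddCommGrpCat.mono_iff_injective _).mpr Subtype.val_injective
  haveI : Mono (EtShriek.lowerShriekPreι f F) := NatTrans.mono_of_mono_app _
  rw [EtShriek.lowerShriekToPush, Adjunction.homEquiv_counit]
  haveI : Mono ((presheafToSheaf Y.smallEtaleTopology AddCommGrpCat.{u + 1}).map (EtShriek.lowerShriekPreι f F)) :=
    inferInstance
  exact mono_comp _ _

end Groth.Agent.ShriekLQF
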