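import Groth.Agent.ShriekLQF.Compact
import Mathlib

/-!
Direct images with proper support compose.
-/

set_option autoImplicit false
set_option backward.isDefEq.respectTransparency false
set_option linter.style.haveILetI false

universe u

open CategoryTheory CategoryTheory.Limits AlgebraicGeometry Opposite

namespace Groth.Agent.ShriekLQF

/-- natural version of the comparison of subsheaves, with the compatibility -/
theorem exists_natIso {X : Scheme.{u}} {C : Type*} [Category C] {P Q G : C ⥤ EtCoh.Ab X} (a : P ⟶ G) (b : Q ⟶ G)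
    [∀ c, Mono (a.app c)] [∀ c, Mono (b.app c)]
    (h : ∀ c (V : X.Etale) s, (∃ z, (a.app c).hom.app (op V) z = s) ↔ ∃ z, (b.app c).hom.app (op V) z = s) :
    ∃ φ : P ≅ Q, ∀ c, φ.hom.app c ≫ b.app c = a.app c := by
  choose φ hφ using fun c => exists_hom_of_range_le (a.app c) (b.app c) fun V z => (h c V _).mp ⟨z, rfl⟩
  choose ψ hψ using fun c => exists_hom_of_range_le (b.app c) (a.app c) fun V z => (h c V _).mpr ⟨z, rfl⟩
  refine ⟨NatIso.ofComponents (fun c => ⟨φ c, ψ c, ?_, ?_⟩) fun {c c'} m => ?_, hφ⟩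
  · rw [← cancel_mono (a.app c), Category.assoc, hψ, hφ, Category.id_comp]
  · rw [← cancel_mono (b.app c), Category.assoc, hφ, hψ, Category.id_comp]
  · change P.map m ≫ φ c' = φ c ≫ Q.map m
    rw [← cancel_mono (b.app c'), Category.assoc, Category.assoc, hφ, b.naturality, reassoc_of% hφ, a.naturality]

/-- closed subsets proper over the composite -/
theorem isProperOver_comp_separated_iff {P Q S : Scheme.{u}} (p : P ⟶ Q) [LocallyOfFiniteType p] (q : Q ⟶ S)
    [IsSeparated q] [LocallyOfFiniteType q] (C : Set P) :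
    ClSub.IsProperOver (p ≫ q) C ↔ ClSub.IsProperOver p C ∧ ClSub.IsProperOver q (p '' C) := by
  constructor
  · rintro ⟨hc, hp⟩
    let i := ClSubLib.redι C hc
    haveI : IsProper ((i ≫ p) ≫ q) := by rw [Category.assoc]; exact hp
    haveI : IsProper (i ≫ p) := IsProper.of_comp (i ≫ p) q
    refine ⟨⟨hc, ‹_›⟩, ?_⟩
    have := ClSubLib.isProperOver_range q (i ≫ p)
    convert this using 1
    conv_lhs => rw [← ClSubLib.range_redι C hc]
    rw [← Set.range_comp]
    ext y
    simp [i, Scheme.Hom.comp_apply]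
  · rintro ⟨⟨hc, hp⟩, hd, hq⟩
    let i := ClSubLib.redι C hc
    let k := ClSubLib.redι (p '' C) hd
    haveI : IsProper (i ≫ p) := hp
    haveI : IsProper (k ≫ q) := hq
    obtain ⟨j, hj, hfac⟩ := ClSubLib.exists_fac (pullback.fst p k) C hc (fun x hx => by
      obtain ⟨z, hz⟩ := (ClSubLib.range_redι (p '' C) hd).ge ⟨x, hx, rfl⟩
      obtain ⟨v, hv, -⟩ := Scheme.Pullback.exists_preimage_pullback x z hz.symm
      exact ⟨v, hv⟩)
    let m := j ≫ pullback.snd p k
    have hm : m ≫ k = i ≫ p := by
      rw [Category.assoc, ← pullback.condition, reassoc_of% hfac]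
    haveI : IsProper (m ≫ k) := by rw [hm]; infer_instance
    haveI : IsProper m := IsProper.of_comp m k
    refine ⟨hc, ?_⟩
    show IsProper (i ≫ p ≫ q)
    rw [← Category.assoc, ← hm, Category.assoc]
    infer_instance

variable {X Y Z : Scheme.{u}} (h : X ⟶ Y) (g : Y ⟶ Z)

/-- support of a section of a direct image, for a closed image -/
theorem sectSupp_push (F : EtCoh.Ab X) (U : Y.Etale) (t : EtCoh.sect F ((EtCoh.bc h).obj U))
    (hcl : IsClosed (EtShriek.prV h U '' EtShriek.sectSupp F _ t)) :
    EtShriek.sectSupp ((EtCoh.push h).obj F) U t = EtShriek.prV h U '' EtShriek.sectSupp F _ t := by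
  have key : ∀ (W : Y.Etale) (w : W ⟶ U),
      ((EtCoh.push h).obj F).obj.map w.op t = 0 ↔
        Disjoint (Set.range w.left) (EtShriek.prV h U '' EtShriek.sectSupp F _ t) := by
    intro W w
    refine (Groth.Agent.EtSect.map_eq_zero_iff F t ((EtCoh.bc h).map w)).trans ?_
    rw [Set.disjoint_left]
    constructor
    · rintro hh _ ⟨x, rfl⟩ ⟨c, hc, hcx⟩
      obtain ⟨q, hq, -⟩ := Scheme.exists_preimage_of_isPullback (EtCoh.isPullback_bc_map h w) c x hcx
      exact hh ⟨q, hq⟩ hc
    · rintro hh _ ⟨q, rfl⟩ hc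
      exact hh ⟨_, rfl⟩ ⟨_, hc, congr($((EtCoh.isPullback_bc_map h w).w) q)⟩
  ext y
  rw [← not_iff_not, Groth.Agent.EtSect.mem_iff]
  constructor
  · rintro ⟨W, w, hw, h0⟩
    exact Set.disjoint_left.mp ((key W w).mp h0) hw
  · intro hy
    let O : U.left.Opens := ⟨_, hcl.isOpen_compl⟩
    have := U.prop
    let W : Y.Etale := Scheme.Etale.mk (O.ι ≫ U.hom)
    let w : W ⟶ U := MorphismProperty.Over.homMk O.ι rfl
    have hr : Set.range w.left = (O : Set U.left) := Scheme.Opens.range_ι O
    refine ⟨W, w, hr.ge hy, (key W w).mpr ?_⟩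
    rw [hr]
    exact disjoint_compl_left

theorem sectSupp_app_of_mono {A B : EtCoh.Ab Y} (a : A ⟶ B) [Mono a] (U : Y.Etale) (s : EtCoh.sect A U) :
    EtShriek.sectSupp A U s = EtShriek.sectSupp B U (a.hom.app (op U) s) := by
  refine Set.Subset.antisymm ?_ (EtShriek.sectSupp_map_subset a U s)
  intro x hx W w hw h0
  refine hx W w hw (mono_iff_app_injective a W ?_)
  rw [map_zero, NatTrans.naturality_apply]
  exact h0

variable [IsSeparated g] [LocallyOfFiniteType h] [LocallyOfFiniteType g]

theorem exists_comp_iso :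
    ∃! φ : EtShriek.lowerShriek (h ≫ g) ≅ EtShriek.lowerShriek h ⋙ EtShriek.lowerShriek g,
      ∀ F : EtCoh.Ab X,
        φ.hom.app F ≫ (EtShriek.lowerShriek g).map (EtShriek.lowerShriekToPush h F) ≫
            EtShriek.lowerShriekToPush g ((EtCoh.push h).obj F) =
          EtShriek.lowerShriekToPush (h ≫ g) F ≫ (EtCoh.pushComp g h).inv.app F := by
  let th : EtShriek.lowerShriek h ⟶ EtCoh.push h :=
    { app := EtShriek.lowerShriekToPush h
      naturality := fun _ _ m => toPush_natural h m }
  let tg : EtShriek.lowerShriek g ⟶ EtCoh.push g :=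
    { app := EtShriek.lowerShriekToPush g
      naturality := fun _ _ m => toPush_natural g m }
  let a : EtShriek.lowerShriek (h ≫ g) ⟶ EtCoh.push (h ≫ g) :=
    { app := EtShriek.lowerShriekToPush (h ≫ g)
      naturality := fun _ _ m => toPush_natural (h ≫ g) m }
  let b₀ : EtShriek.lowerShriek h ⋙ EtShriek.lowerShriek g ⟶ EtCoh.push h ⋙ EtCoh.push g :=
    Functor.whiskerRight th (EtShriek.lowerShriek g) ≫ Functor.whiskerLeft (EtCoh.push h) tg
  let b := b₀ ≫ (EtCoh.pushComp g h).hom
  haveI : (EtCoh.push g).PreservesMonomorphisms :=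
    (EtCoh.push g).preservesMonomorphisms_of_adjunction (EtCoh.pullPushAdj g)
  have hb₀' : ∀ F, b₀.app F = EtShriek.lowerShriekToPush g _ ≫ (EtCoh.push g).map (EtShriek.lowerShriekToPush h F) :=
    fun F => toPush_natural g (EtShriek.lowerShriekToPush h F)
  haveI hmono₀ : ∀ F, Mono (b₀.app F) := fun F => by
    haveI := mono_toPush h F
    haveI := mono_toPush g ((EtShriek.lowerShriek h).obj F)
    rw [hb₀']
    infer_instance
  haveI : ∀ F, Mono (a.app F) := fun F => mono_toPush _ F
  haveI : ∀ F, Mono (b.app F) := fun F => by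
    change Mono (b₀.app F ≫ (EtCoh.pushComp g h).hom.app F)
    infer_instance
  have hr : ∀ F (V : Z.Etale) s, (∃ z, (a.app F).hom.app (op V) z = s) ↔ ∃ z, (b.app F).hom.app (op V) z = s := by
    intro F V s
    refine Iff.trans (range_toPush (h ≫ g) F V s) ?_
    let U := (EtCoh.bc g).obj V
    haveI : LocallyOfFiniteType (EtShriek.prV h U) := MorphismProperty.pullback_fst _ _ ‹_›
    haveI : LocallyOfFiniteType (EtShriek.prV g V) := MorphismProperty.pullback_fst _ _ ‹_›
    haveI : IsSeparated (EtShriek.prV g V) := MorphismProperty.pullback_fst _ _ ‹_›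
    let e := (bcComp h g).app V
    have hinv : F.obj.map e.hom.op (F.obj.map e.inv.op s) = s := by
      rw [← ConcreteCategory.comp_apply, ← Functor.map_comp, ← op_comp, e.hom_inv_id, op_id,
        CategoryTheory.Functor.map_id]
      rfl
    have key : ∀ z, (b.app F).hom.app (op V) z =
        F.obj.map e.hom.op ((EtShriek.lowerShriekToPush h F).hom.app (op U)
          ((EtShriek.lowerShriekToPush g ((EtShriek.lowerShriek h).obj F)).hom.app (op V) z)) := by
      intro z
      have e1 : b.app F = (EtShriek.lowerShriekToPush g _ ≫ (EtCoh.push g).map (EtShriek.lowerShriekToPush h F)) ≫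
          (EtCoh.pushComp g h).hom.app F := by rw [← hb₀']; rfl
      rw [e1]
      exact ConcreteCategory.congr_hom (pushComp_app h g F V) _
    have hsupp : ∀ t₀ : EtCoh.sect F ((EtCoh.bc h).obj U),
        ClSub.IsProperOver (EtShriek.prV (h ≫ g) V)
          (EtShriek.sectSupp F ((EtCoh.bc (h ≫ g)).obj V) (F.obj.map e.hom.op t₀)) ↔
        ClSub.IsProperOver (EtShriek.prV h U ≫ EtShriek.prV g V) (EtShriek.sectSupp F _ t₀) := by
      intro t₀
      let E : ((EtCoh.bc (h ≫ g)).obj V).left ≅ ((EtCoh.bc h).obj U).left :=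
        (MorphismProperty.Over.forget EtCoh.etaleMP ⊤ X ⋙ Over.forget X).mapIso e
      haveI : IsIso E.hom := E.isIso_hom
      haveI : IsIso E.inv := E.isIso_inv
      haveI : IsClosedImmersion E.hom := inferInstance
      haveI : IsClosedImmersion E.inv := inferInstance
      rw [sectSupp_map]
      constructor
      · intro hh
        have h' := ClSubLib.isProperOver_preimage (p := EtShriek.prV h U ≫ EtShriek.prV g V) E.inv
          (by rw [← bcComp_prV h g V]; exact E.inv_hom_id_assoc _) hh
        convert h' using 1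
        ext x
        simp only [Set.mem_preimage]
        rw [show e.hom.left (E.inv x) = x from congr($(E.inv_hom_id) x)]
        rfl
      · exact fun hh => ClSubLib.isProperOver_preimage E.hom (bcComp_prV h g V) hh
    constructor
    · intro hs
      have hs' := (hsupp (F.obj.map e.inv.op s)).mp (hinv.symm ▸ hs)
      obtain ⟨h1, h2⟩ := (isProperOver_comp_separated_iff _ _ _).mp hs'
      obtain ⟨t, ht⟩ := (range_toPush h F U _).mpr h1
      haveI := mono_toPush h F
      have hst : EtShriek.sectSupp ((EtShriek.lowerShriek h).obj F) U t =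
          EtShriek.prV h U '' EtShriek.sectSupp F _ (F.obj.map e.inv.op s) := by
        rw [sectSupp_app_of_mono (EtShriek.lowerShriekToPush h F) U t, ht]
        exact sectSupp_push h F U _ h2.1
      obtain ⟨z, hz⟩ := (range_toPush g ((EtShriek.lowerShriek h).obj F) V t).mpr (hst ▸ h2)
      exact ⟨z, by rw [key, hz, ht]; exact hinv⟩
    · rintro ⟨z, rfl⟩
      rw [key]
      refine (hsupp _).mpr ((isProperOver_comp_separated_iff _ _ _).mpr ?_)
      have h1 := (range_toPush h F U ((EtShriek.lowerShriekToPush h F).hom.app (op U)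
        ((EtShriek.lowerShriekToPush g ((EtShriek.lowerShriek h).obj F)).hom.app (op V) z))).mp ⟨_, rfl⟩
      refine ⟨h1, ?_⟩
      have hcl : IsClosed (EtShriek.prV h U '' EtShriek.sectSupp F _
          ((EtShriek.lowerShriekToPush h F).hom.app (op U)
            ((EtShriek.lowerShriekToPush g ((EtShriek.lowerShriek h).obj F)).hom.app (op V) z))) := by
        obtain ⟨hc, hp⟩ := h1
        haveI : IsProper (ClSubLib.redι _ hc ≫ EtShriek.prV h U) := hp
        rw [← ClSubLib.range_redι _ hc, ← Set.range_comp]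
        simpa using (ClSubLib.redι _ hc ≫ EtShriek.prV h U).isClosedMap.isClosed_range
      haveI := mono_toPush h F
      rw [← sectSupp_push h F U _ hcl]
      exact sectSupp_app_of_mono (EtShriek.lowerShriekToPush h F) U _ ▸ (range_toPush g _ V _).mp ⟨z, rfl⟩
  obtain ⟨φ, hφ⟩ := exists_natIso a b hr
  refine ⟨φ, fun F => ?_, fun ψ hψ => ?_⟩
  · show φ.hom.app F ≫ b₀.app F = a.app F ≫ (EtCoh.pushComp g h).inv.app F
    rw [← hφ F]
    simp [b]
  · refine Iso.ext (NatTrans.ext (funext fun F => ?_))
    rw [← cancel_mono (b₀.app F)]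
    refine (hψ F).trans ?_
    show a.app F ≫ _ = φ.hom.app F ≫ b₀.app F
    rw [← hφ F]
    simp [b]

end Groth.Agent.ShriekLQF
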