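import Groth.Agent.PropALib.Basic
import Mathlib

/-!
A clopen piece, finite over an étale neighbourhood and with a single geometric point, for separated
locally quasi-finite morphisms.
-/

set_option autoImplicit false
set_option backward.isDefEq.respectTransparency false
set_option linter.style.haveILetI false

universe u

open CategoryTheory CategoryTheory.Limits AlgebraicGeometry TensorProduct

namespace Groth.Agent.ShriekLQF

open Groth.Agent.PropALib

theorem exists_clopen_section {X Y U : Scheme.{u}} (f : X ⟶ Y) [IsSeparated f] [LocallyQuasiFinite f]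
    [LocallyOfFiniteType f] (g : U ⟶ X) [Etale g] {Ω : Type u} [Field Ω] [IsAlgClosed Ω]
    (w : Spec (CommRingCat.of Ω) ⟶ U) :
    ∃ (V : Scheme.{u}) (p : V ⟶ Y) (_ : Etale p) (ν : Spec (CommRingCat.of Ω) ⟶ V) (_ : ν ≫ p = w ≫ g ≫ f)
      (L : (pullback p f).Opens) (_ : IsClosed (L : Set ↥(pullback p f)))
      (_ : IsFinite (L.ι ≫ pullback.fst p f)) (s : (L : Scheme.{u}) ⟶ U),
      s ≫ g = L.ι ≫ pullback.snd p f ∧ ∃ l : Spec (CommRingCat.of Ω) ⟶ L,
        l ≫ s = w ∧ l ≫ L.ι ≫ pullback.fst p f = ν ∧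
        ∀ l' : Spec (CommRingCat.of Ω) ⟶ L, l' ≫ L.ι ≫ pullback.fst p f = ν → l' = l := by
  let u : U := w default
  obtain ⟨Y₀, hY₀, hy, -⟩ := exists_isAffineOpen_mem_and_subset (X := Y) (x := (g ≫ f) u) (U := ⊤) trivial
  obtain ⟨U₀, hU₀, hu, hle⟩ := exists_isAffineOpen_mem_and_subset (X := U) (x := u) (U := (g ≫ f) ⁻¹ᵁ Y₀) hy
  have hle' : U₀ ≤ (g ≫ f) ⁻¹ᵁ Y₀ := hle
  haveI := Groth.Agent.FpqcDescent.locallyQuasiFinite_of_etale g
  let R := Γ(Y, Y₀)
  let T := Γ(U, U₀)
  let φ : R ⟶ T := (g ≫ f).appLE Y₀ U₀ hle'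
  letI : Algebra R T := φ.hom.toAlgebra
  haveI : Algebra.FiniteType R T :=
    RingHom.finiteType_algebraMap.mp ((g ≫ f).finiteType_appLE hY₀ hU₀ hle')
  haveI : Algebra.QuasiFinite R T :=
    RingHom.quasiFinite_algebraMap.mp
      (HasRingHomProperty.appLE @LocallyQuasiFinite (g ≫ f) inferInstance ⟨Y₀, hY₀⟩ ⟨U₀, hU₀⟩ hle')
  have hwr : Set.range w ⊆ Set.range hU₀.fromSpec := by
    rintro _ ⟨z, rfl⟩
    rw [hU₀.range_fromSpec, Subsingleton.elim (α := Spec (CommRingCat.of Ω)) z default]
    exact hu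
  let ξ : Spec (CommRingCat.of Ω) ⟶ Spec T := IsOpenImmersion.lift hU₀.fromSpec w hwr
  have hξ : ξ ≫ hU₀.fromSpec = w := IsOpenImmersion.lift_fac _ _ _
  let ξT : T ⟶ CommRingCat.of Ω := Spec.preimage ξ
  letI : Algebra R Ω := (φ ≫ ξT).hom.toAlgebra
  let ξ' : T →ₐ[R] Ω := { toRingHom := ξT.hom, commutes' := fun r => rfl }
  obtain ⟨R', _, _, _, v, e, he, hfin, hne, huniq⟩ := Groth.Agent.Weighting.exists_etale_split Ω ξ'
  -- schemes
  let aR : R ⟶ CommRingCat.of R' := CommRingCat.ofHom (algebraMap R R')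
  haveI : Etale (Spec.map aR) := by
    rw [HasRingHomProperty.Spec_iff (P := @Etale)]
    exact RingHom.etale_algebraMap.mpr inferInstance
  let vY : Spec (CommRingCat.of R') ⟶ Y := Spec.map aR ≫ hY₀.fromSpec
  haveI : Etale vY := inferInstance
  let inL : CommRingCat.of R' ⟶ CommRingCat.of (R' ⊗[R] T) :=
    CommRingCat.ofHom (Algebra.TensorProduct.includeLeftRingHom : R' →+* R' ⊗[R] T)
  let inR : T ⟶ CommRingCat.of (R' ⊗[R] T) :=
    CommRingCat.ofHom ((Algebra.TensorProduct.includeRight : T →ₐ[R] R' ⊗[R] T).toRingHom)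
  let loc : CommRingCat.of (R' ⊗[R] T) ⟶ CommRingCat.of (Localization.Away e) :=
    CommRingCat.ofHom (algebraMap _ _)
  haveI : IsOpenImmersion (Spec.map loc) :=
    IsOpenImmersion.of_isLocalization (S := Localization.Away e) e
  have hφ : Spec.map φ ≫ hY₀.fromSpec = hU₀.fromSpec ≫ g ≫ f :=
    IsAffineOpen.SpecMap_appLE_fromSpec (g ≫ f) hY₀ hU₀ hle'
  have hsq : aR ≫ inL = φ ≫ inR := CommRingCat.hom_ext (RingHom.ext fun r =>
    ((Algebra.TensorProduct.includeLeft : R' →ₐ[R] R' ⊗[R] T).commutes r).trans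
      ((Algebra.TensorProduct.includeRight : T →ₐ[R] R' ⊗[R] T).commutes r).symm)
  have hw : (Spec.map inR ≫ hU₀.fromSpec ≫ g) ≫ f = Spec.map inL ≫ vY := by
    rw [show Spec.map inL ≫ vY = Spec.map (aR ≫ inL) ≫ hY₀.fromSpec by rw [Spec.map_comp, Category.assoc],
      hsq, Spec.map_comp]
    simp only [Category.assoc, hφ]
  let π₀ : Spec (CommRingCat.of (R' ⊗[R] T)) ⟶ pullback vY f :=
    pullback.lift (Spec.map inL) (Spec.map inR ≫ hU₀.fromSpec ≫ g) hw.symm
  let π : Spec (CommRingCat.of (Localization.Away e)) ⟶ pullback vY f := Spec.map loc ≫ π₀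
  haveI : IsFinite (π ≫ pullback.fst vY f) := by
    simp only [π, π₀, Category.assoc, pullback.lift_fst, ← Spec.map_comp, IsFinite.SpecMap_iff]
    exact RingHom.finite_algebraMap.mpr hfin
  haveI : IsFinite π := IsFinite.of_comp π (pullback.fst vY f)
  haveI : Etale (Spec.map inR) := by
    rw [HasRingHomProperty.Spec_iff (P := @Etale)]
    letI : Algebra T (R' ⊗[R] T) := Algebra.TensorProduct.rightAlgebra
    show RingHom.Etale (algebraMap T (R' ⊗[R] T))
    exact RingHom.Etale.isStableUnderBaseChange R R' T _ (RingHom.etale_algebraMap.mpr inferInstance)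
  haveI : Etale π := by
    haveI h1 : Etale (π ≫ pullback.snd vY f) := by
      simp only [π, π₀, Category.assoc, pullback.lift_snd]
      infer_instance
    exact MorphismProperty.of_postcomp (W := @Etale) (W' := @Etale) π (pullback.snd vY f) inferInstance h1
  -- the geometric point
  let ψ : R' ⊗[R] T →ₐ[R] Ω := Algebra.TensorProduct.lift v ξ' (fun _ _ => .all _ _)
  have hψ : IsUnit (ψ.toRingHom e) := isUnit_iff_ne_zero.mpr hne
  let ψe : CommRingCat.of (Localization.Away e) ⟶ CommRingCat.of Ω :=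
    CommRingCat.ofHom (IsLocalization.Away.lift e (g := ψ.toRingHom) hψ)
  have hψR : inR ≫ loc ≫ ψe = ξT := CommRingCat.hom_ext (RingHom.ext fun t =>
    (IsLocalization.Away.lift_eq e hψ _).trans
      ((Algebra.TensorProduct.lift_tmul v ξ' _ 1 t).trans (by rw [map_one, one_mul]; rfl)))
  have hψL : inL ≫ loc ≫ ψe = CommRingCat.ofHom v.toRingHom := CommRingCat.hom_ext (RingHom.ext fun t =>
    (IsLocalization.Away.lift_eq e hψ _).trans
      ((Algebra.TensorProduct.lift_tmul v ξ' _ t 1).trans (by rw [map_one, mul_one]; rfl)))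
  let b : Spec (CommRingCat.of Ω) ⟶ Spec (CommRingCat.of (Localization.Away e)) := Spec.map ψe
  let Bc : FEt.Cat (pullback vY f) := MorphismProperty.Over.mk ⊤ π ⟨inferInstance, inferInstance⟩
  have huniqB : ∀ b', b' ≫ π ≫ pullback.fst vY f = b ≫ π ≫ pullback.fst vY f → b' = b := by
    intro b' hb0
    have hb' : (b' ≫ π) ≫ pullback.fst vY f = (b ≫ π) ≫ pullback.fst vY f := by
      simpa only [Category.assoc] using hb0
    let c : CommRingCat.of (Localization.Away e) ⟶ CommRingCat.of Ω := Spec.preimage b'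
    have hc : Spec.map c = b' := Spec.map_preimage _
    have hs : (b' ≫ π) ≫ pullback.fst vY f = (b ≫ π) ≫ pullback.fst vY f := hb'
    simp only [π, π₀, b, ← hc, Category.assoc, pullback.lift_fst, ← Spec.map_comp] at hs
    have hL : inL ≫ loc ≫ c = CommRingCat.ofHom v.toRingHom :=
      (Spec.map_injective (by simpa only [Category.assoc] using hs)).trans hψL
    show b' = b
    rw [← hc]
    refine congrArg Spec.map (CommRingCat.hom_ext (IsLocalization.ringHom_ext (Submonoid.powers e) ?_))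
    let χ : T →ₐ[R] Ω :=
      { toRingHom := (inR ≫ loc ≫ c).hom
        commutes' := fun r => by
          have h1 := ConcreteCategory.congr_hom hsq r
          have h2 := ConcreteCategory.congr_hom hL (algebraMap R R' r)
          refine Eq.trans ?_ (v.commutes r)
          refine Eq.trans ?_ h2
          exact congrArg (fun z => c (loc z)) h1.symm }
    have key : ∀ z, Algebra.TensorProduct.lift v χ (fun _ _ => .all _ _) z = c.hom (loc.hom z) := fun z => by
      induction z using TensorProduct.induction_on with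
      | zero => simp
      | tmul x y =>
        rw [Algebra.TensorProduct.lift_tmul, ← mul_one x, ← one_mul y, ← Algebra.TensorProduct.tmul_mul_tmul,
          mul_one, one_mul, map_mul, map_mul]
        exact congrArg (· * _) (ConcreteCategory.congr_hom hL x).symm
      | add x y hx hy => simp only [map_add, hx, hy]
    have hχξ : χ = ξ' := huniq χ (by
      rw [key]
      exact ((IsLocalization.Away.algebraMap_isUnit e).map c.hom).ne_zero)
    refine RingHom.ext fun z => ?_
    show c.hom (loc.hom z) = ψe.hom (loc.hom z)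
    rw [← key z, hχξ]
    exact (IsLocalization.Away.lift_eq e hψ z).symm
  have hcard : Nat.card (FEt.fiberObj (b ≫ π) Bc) = 1 := by
    haveI : Unique (FEt.fiberObj (b ≫ π) Bc) :=
      { default := ⟨b, rfl⟩
        uniq := fun ⟨b', hb'⟩ => Subtype.ext (huniqB b' (by
          have := congrArg (· ≫ pullback.fst vY f) hb'
          change (b' ≫ π) ≫ pullback.fst vY f = (b ≫ π) ≫ pullback.fst vY f at this
          simpa only [Category.assoc] using this)) }
    exact Nat.card_unique
  let p₀ := Groth.Agent.FEtGal.pt₀ Ω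
  have hp : π.finrank (π (b p₀)) = 1 := by
    rw [← Scheme.Hom.comp_apply]
    exact (FEtRank.natCard_fiber (b ≫ π) Bc).symm.trans hcard
  obtain ⟨L, hL, s, hs, hmem, -⟩ := exists_section_of_finrank_eq_one π (π (b p₀)) hp
  haveI : IsClosedImmersion L.ι := .of_isPreimmersion _ (by simpa using hL)
  haveI : IsClosedImmersion s := by
    have : IsClosedImmersion (s ≫ π) := by rw [hs]; infer_instance
    exact .of_comp s π
  have hLr : Set.range (b ≫ π) ⊆ Set.range L.ι := by
    rintro _ ⟨z, rfl⟩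
    rw [Scheme.Opens.range_ι, Subsingleton.elim (α := Spec (CommRingCat.of Ω)) z p₀]
    exact hmem
  let l : Spec (CommRingCat.of Ω) ⟶ L := IsOpenImmersion.lift L.ι (b ≫ π) hLr
  have hl : l ≫ L.ι = b ≫ π := IsOpenImmersion.lift_fac _ _ _
  have hls : l ≫ s = b := huniqB _ (by
    rw [Category.assoc, reassoc_of% hs, reassoc_of% hl])
  refine ⟨_, vY, inferInstance, b ≫ π ≫ pullback.fst vY f, ?_, L, hL, ?_,
    s ≫ Spec.map loc ≫ Spec.map inR ≫ hU₀.fromSpec, ?_, l, ?_, ?_, fun l' hl' => ?_⟩
  · have h1 : b ≫ π ≫ pullback.snd vY f = w ≫ g := by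
      simp only [π, π₀, b, Category.assoc, pullback.lift_snd]
      rw [← Spec.map_comp_assoc, ← Spec.map_comp_assoc, hψR, Spec.map_preimage, reassoc_of% hξ]
    simp only [Category.assoc]
    rw [pullback.condition, reassoc_of% h1]
  · rw [← hs, Category.assoc]
    infer_instance
  · rw [← hs]
    simp [π, π₀]
  · rw [reassoc_of% hls]
    rw [← Spec.map_comp_assoc, ← Spec.map_comp_assoc, hψR, Spec.map_preimage, hξ]
  · rw [reassoc_of% hl]
  · have h2 : l' ≫ s = b := huniqB _ (by
      rw [Category.assoc, reassoc_of% hs]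
      exact hl')
    rw [← cancel_mono L.ι, hl, ← hs, reassoc_of% h2]

end Groth.Agent.ShriekLQF
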