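import Groth.Agent.ShriekLQF.Support
import Groth.Agent.ShriekLQF.Nhd
import Groth.Agent.EtIntegral.StalkFinite
import Groth.Agent.EtPushStalk.Unit
import Groth.Agent.EtPushStalk.UnivInj
import Mathlib

/-!
Stalks of the direct image with proper support along a separated locally quasi-finite morphism.
-/

set_option autoImplicit false
set_option backward.isDefEq.respectTransparency false
set_option linter.style.haveILetI false

universe u

open CategoryTheory CategoryTheory.Limits AlgebraicGeometry Opposite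

namespace Groth.Agent.ShriekLQF

open Groth.Agent.EtIntegral Groth.Agent.EtPushStalk

variable {X Y : Scheme.{u}} (f : X ⟶ Y) {Ω : Type u} [Field Ω] [IsSepClosed Ω]
  (η : Spec (CommRingCat.of Ω) ⟶ Y)

/-- component of the stalk of the direct image with proper support at a lift -/
noncomputable def comp (F : EtCoh.Ab X) (ξ : Lifts f η) :
    (EtCoh.stalk η).obj ((EtShriek.lowerShriek f).obj F) ⟶ (EtCoh.stalk ξ.1).obj F :=
  (EtCoh.stalk η).map (EtShriek.lowerShriekToPush f F) ≫ stalkPushLift f η F ξ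

theorem toPush_natural {F G : EtCoh.Ab X} (m : F ⟶ G) :
    (EtShriek.lowerShriek f).map m ≫ EtShriek.lowerShriekToPush f G =
      EtShriek.lowerShriekToPush f F ≫ (EtCoh.push f).map m := by
  refine ((sheafificationAdjunction Y.smallEtaleTopology AddCommGrpCat.{u + 1}).homEquiv_naturality_left_symm
    _ _).symm.trans (Eq.trans (congrArg _ ?_)
    ((sheafificationAdjunction Y.smallEtaleTopology AddCommGrpCat.{u + 1}).homEquiv_naturality_right_symm _ _))
  rfl

theorem comp_natural {F G : EtCoh.Ab X} (m : F ⟶ G) (ξ : Lifts f η) :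
    (EtCoh.stalk η).map ((EtShriek.lowerShriek f).map m) ≫ comp f η G ξ =
      comp f η F ξ ≫ (EtCoh.stalk ξ.1).map m := by
  rw [comp, comp, ← Category.assoc, ← Functor.map_comp, toPush_natural, Functor.map_comp, Category.assoc,
    stalkPushLift_natural, Category.assoc]

/-- germ of a section with proper support -/
noncomputable def germ (F : EtCoh.Ab X) (V : Y.Etale) (v : Over.mk η ⟶ (Scheme.Etale.forget Y).obj V) :
    (EtShriek.lowerShriekPre f F).obj (op V) ⟶ (EtCoh.stalk η).obj ((EtShriek.lowerShriek f).obj F) :=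
  (Scheme.pointSmallEtale η).toPresheafFiber V v (EtShriek.lowerShriekPre f F) ≫
    (Scheme.pointSmallEtale η).presheafFiber.map (toSheafify Y.smallEtaleTopology (EtShriek.lowerShriekPre f F))

theorem exists_germ (F : EtCoh.Ab X) (z : (EtCoh.stalk η).obj ((EtShriek.lowerShriek f).obj F)) :
    ∃ (V : Y.Etale) (v : Over.mk η ⟶ (Scheme.Etale.forget Y).obj V) (s : EtShriek.shriekSubgroup f F V),
      germ f η F V v s = z := by
  obtain ⟨y, rfl⟩ := ((ConcreteCategory.isIso_iff_bijective ((Scheme.pointSmallEtale η).presheafFiber.map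
    (toSheafify Y.smallEtaleTopology (EtShriek.lowerShriekPre f F)))).mp inferInstance).2 z
  obtain ⟨V, v, s, rfl⟩ := (Scheme.pointSmallEtale η).toPresheafFiber_jointly_surjective
    (P := EtShriek.lowerShriekPre f F) y
  exact ⟨V, v, s, rfl⟩

/-- the point of `X ×_Y V` over a lift -/
noncomputable def upPt {V : Y.Etale} (v : Over.mk η ⟶ (Scheme.Etale.forget Y).obj V) (ξ : Lifts f η) :
    Over.mk ξ.1 ⟶ (Scheme.Etale.forget X).obj ((EtCoh.bc f).obj V) :=
  up f ξ.1 (Over.homMk v.left ((Over.w v).trans ξ.2.symm))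

theorem comp_germ (F : EtCoh.Ab X) (V : Y.Etale) (v : Over.mk η ⟶ (Scheme.Etale.forget Y).obj V)
    (s : EtShriek.shriekSubgroup f F V) (ξ : Lifts f η) :
    comp f η F ξ (germ f η F V v s) =
      (Scheme.pointSmallEtale ξ.1).toPresheafFiber ((EtCoh.bc f).obj V) (upPt f η v ξ) F.obj s.1 := by
  refine Eq.trans ?_ (stalkPushLift_germ f η F ξ V v s.1)
  rw [comp, germ, ConcreteCategory.comp_apply, ConcreteCategory.comp_apply]
  refine congrArg _ ?_
  show ConcreteCategory.hom ((Scheme.pointSmallEtale η).presheafFiber.map (EtShriek.lowerShriekToPush f F).hom)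
    (ConcreteCategory.hom ((Scheme.pointSmallEtale η).presheafFiber.map (toSheafify Y.smallEtaleTopology (EtShriek.lowerShriekPre f F))) _) = _
  have hc := ((Scheme.pointSmallEtale η).presheafFiber.map_comp
      (toSheafify Y.smallEtaleTopology (EtShriek.lowerShriekPre f F)) (EtShriek.lowerShriekToPush f F).hom).symm.trans
    (congrArg (Scheme.pointSmallEtale η).presheafFiber.map
      (toSheafify_sheafifyLift Y.smallEtaleTopology (EtShriek.lowerShriekPreι f F) ((EtCoh.push f).obj F).property))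
  exact (ConcreteCategory.congr_hom hc _).trans (GrothendieckTopology.Point.toPresheafFiber_naturality_apply _ _ _ _ _)

/-- the component vanishes iff the point is outside the support -/
theorem comp_germ_eq_zero_iff (F : EtCoh.Ab X) (V : Y.Etale) (v : Over.mk η ⟶ (Scheme.Etale.forget Y).obj V)
    (s : EtShriek.shriekSubgroup f F V) (ξ : Lifts f η) :
    comp f η F ξ (germ f η F V v s) = 0 ↔
      (upPt f η v ξ).left (default : Spec (CommRingCat.of Ω)) ∉ EtShriek.sectSupp F ((EtCoh.bc f).obj V) s.1 := by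
  rw [comp_germ, germ_eq_zero_iff]

variable [IsSeparated f] [LocallyOfFiniteType f] [LocallyQuasiFinite f]

/-- the support as a scheme finite over `V` -/
theorem exists_finite_supp (F : EtCoh.Ab X) (V : Y.Etale) (s : EtShriek.shriekSubgroup f F V) :
    ∃ (T : Scheme.{u}) (i : T ⟶ ((EtCoh.bc f).obj V).left) (_ : IsClosedImmersion i)
      (_ : IsFinite (i ≫ EtShriek.prV f V)), Set.range i = EtShriek.sectSupp F _ s.1 := by
  obtain ⟨hc, hp⟩ := (mem_shriekSubgroup_iff F f V s.1).mp s.2
  let i := ClSubLib.redι _ hc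
  haveI : IsProper (i ≫ EtShriek.prV f V) := hp
  haveI : LocallyQuasiFinite (EtShriek.prV f V) := MorphismProperty.pullback_fst _ _ ‹_›
  exact ⟨_, i, inferInstance, IsFinite.of_isProper_of_locallyQuasiFinite _, ClSubLib.range_redι _ _⟩

theorem finite_support (F : EtCoh.Ab X) (z : (EtCoh.stalk η).obj ((EtShriek.lowerShriek f).obj F)) :
    {ξ : Lifts f η | comp f η F ξ z ≠ 0}.Finite := by
  obtain ⟨V, v, s, rfl⟩ := exists_germ f η F z
  obtain ⟨T, i, _, _, hr⟩ := exists_finite_supp f F V s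
  haveI := finite_lifts (i ≫ EtShriek.prV f V) v.left
  have hmem : ∀ ξ : {ξ : Lifts f η | comp f η F ξ (germ f η F V v s) ≠ 0},
      ∃ t : Lifts (i ≫ EtShriek.prV f V) v.left, t.1 ≫ i = (upPt f η v ξ.1).left := by
    intro ξ
    have h := (not_iff_not.mpr (comp_germ_eq_zero_iff f η F V v s ξ.1)).mp ξ.2
    rw [not_not, ← hr] at h
    obtain ⟨t, ht⟩ := exists_lift_point i (upPt f η v ξ.1).left h
    refine ⟨⟨t, ?_⟩, ht⟩
    rw [reassoc_of% ht]
    exact pullback.lift_fst _ _ _
  choose t ht using hmem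
  refine Set.finite_coe_iff.mp (Finite.of_injective t fun a b h => Subtype.ext (Subtype.ext ?_))
  have h1 : (upPt f η v a.1).left = (upPt f η v b.1).left := by rw [← ht a, ← ht b, h]
  have h2 := congrArg (· ≫ pullback.snd V.hom f) h1
  simpa [upPt, up] using h2

variable [IsAlgClosed Ω]

theorem eq_zero_of_comp (F : EtCoh.Ab X) (z : (EtCoh.stalk η).obj ((EtShriek.lowerShriek f).obj F))
    (h : ∀ ξ, comp f η F ξ z = 0) : z = 0 := by
  obtain ⟨V, v, s, rfl⟩ := exists_germ f η F z
  obtain ⟨T, i, _, _, hr⟩ := exists_finite_supp f F V s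
  let fV := EtShriek.prV f V
  have hfib : ∀ c ∈ EtShriek.sectSupp F ((EtCoh.bc f).obj V) s.1,
      fV c ≠ v.left (default : Spec (CommRingCat.of Ω)) := by
    intro c hc he
    rw [← hr] at hc
    obtain ⟨c, rfl⟩ := hc
    obtain ⟨t, ht⟩ := exists_lift_of_point (i ≫ fV) v.left c he
    let ξ : Lifts f η := ⟨t.1 ≫ i ≫ pullback.snd V.hom f, by
      have h1 : i ≫ pullback.snd V.hom f ≫ f = (i ≫ fV) ≫ V.hom := by
        rw [Category.assoc]; exact congrArg (i ≫ ·) (pullback.condition).symm
      simp only [Category.assoc]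
      rw [h1, ← Category.assoc, t.2]
      exact Over.w v⟩
    have hup : (upPt f η v ξ).left = t.1 ≫ i := by
      apply pullback.hom_ext
      · refine (pullback.lift_fst _ _ _).trans ?_
        exact t.2.symm.trans (Category.assoc _ _ _).symm
      · refine (pullback.lift_snd _ _ _).trans ?_
        exact (Category.assoc _ _ _).symm
    refine (comp_germ_eq_zero_iff f η F V v s ξ).mp (h ξ) ?_
    rw [hup, ← hr]
    exact ⟨_, rfl⟩
  have hC : IsClosed (fV '' EtShriek.sectSupp F _ s.1) := by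
    rw [← hr, ← Set.range_comp]
    have := (i ≫ fV).isClosedMap.isClosed_range
    simpa using this
  let O : V.left.Opens := ⟨(fV '' EtShriek.sectSupp F _ s.1)ᶜ, hC.isOpen_compl⟩
  have := V.prop
  let V' : Y.Etale := Scheme.Etale.mk (O.ι ≫ V.hom)
  let a : V' ⟶ V := MorphismProperty.Over.homMk O.ι rfl
  have hvr : Set.range v.left ⊆ Set.range O.ι := by
    rintro _ ⟨c, rfl⟩
    rw [Scheme.Opens.range_ι, Subsingleton.elim (α := Spec (CommRingCat.of Ω)) c default]
    rintro ⟨c', hc', he⟩
    exact hfib c' hc' he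
  let v' : Over.mk η ⟶ (Scheme.Etale.forget Y).obj V' := Over.homMk (IsOpenImmersion.lift O.ι v.left hvr) (by
    change IsOpenImmersion.lift O.ι v.left hvr ≫ O.ι ≫ V.hom = η
    rw [IsOpenImmersion.lift_fac_assoc]; exact Over.w v)
  have hv' : (Scheme.pointSmallEtale η).fiber.map a v' = v :=
    Over.OverMorphism.ext (IsOpenImmersion.lift_fac _ _ _)
  have hzero : (EtShriek.lowerShriekPre f F).map a.op s = 0 := by
    refine Subtype.ext ?_
    show F.obj.map ((EtCoh.bc f).map a).op s.1 = 0
    refine (Groth.Agent.EtSect.map_eq_zero_iff F s.1 _).mpr ?_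
    rintro _ ⟨c, rfl⟩ hc
    let m : pullback (O.ι ≫ V.hom) f ⟶ pullback V.hom f := ((EtCoh.bc f).map a).left
    let c' : (pullback (O.ι ≫ V.hom) f : Scheme.{u}) := c
    let o : O.toScheme := pullback.fst (O.ι ≫ V.hom) f c'
    exact o.2 ⟨m c', hc, congr($((EtCoh.isPullback_bc_map f a).w) c')⟩
  rw [germ, ConcreteCategory.comp_apply]
  rw [← hv', ← GrothendieckTopology.Point.toPresheafFiber_w_apply, hzero, map_zero, map_zero]

theorem exists_single (F : EtCoh.Ab X) (ξ : Lifts f η) (a : (EtCoh.stalk ξ.1).obj F) :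
    ∃ z, comp f η F ξ z = a ∧ ∀ ξ', ξ' ≠ ξ → comp f η F ξ' z = 0 := by
  obtain ⟨W, w₀, t, rfl⟩ := (Scheme.pointSmallEtale ξ.1).toPresheafFiber_jointly_surjective (P := F.obj) a
  let w : Over.mk ξ.1 ⟶ (Scheme.Etale.forget X).obj W := w₀
  haveI : Etale W.hom := W.prop
  obtain ⟨V₀, p, hp, ν, hν, L, hL, hfin, σ, hσ, l, hlσ, hlν, hluniq⟩ :=
    exists_clopen_section f W.hom w.left
  have hν' : ν ≫ p = η := by
    refine hν.trans ?_
    rw [← Category.assoc]
    exact (congrArg (· ≫ f) (Over.w w)).trans ξ.2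
  let V : Y.Etale := Scheme.Etale.mk p
  let v : Over.mk η ⟶ (Scheme.Etale.forget Y).obj V := Over.homMk ν hν'
  let P : X.Etale := (EtCoh.bc f).obj V
  let Pl : Scheme.{u} := pullback p f
  haveI : Etale (pullback.snd p f) := P.prop
  let C : (pullback p f).Opens := ⟨(L : Set ↥(pullback p f))ᶜ, hL.isOpen_compl⟩
  let ZL : X.Etale := Scheme.Etale.mk (L.ι ≫ pullback.snd p f)
  let ZC : X.Etale := Scheme.Etale.mk (C.ι ≫ pullback.snd p f)
  let πL : ZL ⟶ P := MorphismProperty.Over.homMk L.ι rfl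
  let πC : ZC ⟶ P := MorphismProperty.Over.homMk C.ι rfl
  let S : ZL ⟶ W := MorphismProperty.Over.homMk σ hσ
  let Z : ULift.{u} Bool → X.Etale := fun b => Bool.rec ZC ZL b.down
  let π : ∀ b, Z b ⟶ P := fun b => match b with
    | ⟨true⟩ => πL
    | ⟨false⟩ => πC
  have : ∀ b, Mono (π b).left := by
    rintro ⟨_ | _⟩
    · exact inferInstanceAs (Mono C.ι)
    · exact inferInstanceAs (Mono L.ι)
  let val : ∀ b, EtCoh.sect F (Z b) := fun b => match b with
    | ⟨true⟩ => F.obj.map S.op t
    | ⟨false⟩ => (0 : EtCoh.sect F ZC)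
  obtain ⟨r, hr⟩ := exists_amalg_disjoint F Z π (by
      rintro ⟨_ | _⟩ ⟨_ | _⟩ hne x y hxy
      · exact hne rfl
      · let x' : C.toScheme := x
        let y' : L.toScheme := y
        exact x'.2 (show x'.1 ∈ L from (show x'.1 = y'.1 from hxy) ▸ y'.2)
      · let x' : L.toScheme := x
        let y' : C.toScheme := y
        exact y'.2 (show y'.1 ∈ L from (show x'.1 = y'.1 from hxy) ▸ x'.2)
      · exact hne rfl)
    (fun q => by
      by_cases hq : q ∈ (L : Set ↥(pullback p f))
      · exact ⟨⟨true⟩, (⟨q, hq⟩ : L.toScheme), rfl⟩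
      · exact ⟨⟨false⟩, (⟨q, hq⟩ : C.toScheme), rfl⟩) val
  have hrL : F.obj.map πL.op r = F.obj.map S.op t := hr ⟨true⟩
  have hrC : F.obj.map πC.op r = 0 := hr ⟨false⟩
  have hsupp : EtShriek.sectSupp F P r ⊆ Set.range L.ι := by
    intro q hq
    let q' : (pullback p f : Scheme.{u}) := q
    by_contra hne
    rw [Scheme.Opens.range_ι] at hne
    exact (Groth.Agent.EtSect.map_eq_zero_iff F r πC).mp hrC ⟨(⟨q', hne⟩ : C.toScheme), rfl⟩ hq
  have hmem : r ∈ EtShriek.shriekSubgroup f F V := by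
    rw [mem_shriekSubgroup_iff]
    haveI : IsClosedImmersion L.ι := .of_isPreimmersion _ (by simpa using hL)
    haveI : IsProper (L.ι ≫ pullback.fst p f) := inferInstance
    exact ClSubLib.isProperOver_of_subset (pullback.fst p f) L.ι _ (Groth.Agent.EtSect.isClosed_sectSupp F r) hsupp
  refine ⟨germ f η F V v ⟨r, hmem⟩, ?_, fun ξ' hne => ?_⟩
  · rw [comp_germ]
    let lu : Over.mk ξ.1 ⟶ (Scheme.Etale.forget X).obj ZL := Over.homMk l (by
      change l ≫ L.ι ≫ pullback.snd p f = ξ.1
      rw [← hσ, reassoc_of% hlσ]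
      exact Over.w w)
    have h1 : (Scheme.pointSmallEtale ξ.1).fiber.map πL lu = upPt f η v ξ := by
      refine Over.OverMorphism.ext ?_
      change l ≫ L.ι = pullback.lift ν ξ.1 _
      apply pullback.hom_ext
      · rw [pullback.lift_fst, Category.assoc]; exact hlν
      · rw [pullback.lift_snd, Category.assoc]; exact Over.w lu
    have h2 : (Scheme.pointSmallEtale ξ.1).fiber.map S lu = w := Over.OverMorphism.ext hlσ
    show _ = (Scheme.pointSmallEtale ξ.1).toPresheafFiber W w F.obj t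
    rw [← h2, ← h1, ← GrothendieckTopology.Point.toPresheafFiber_w_apply,
      ← GrothendieckTopology.Point.toPresheafFiber_w_apply, hrL]
  · rw [comp_germ_eq_zero_iff]
    intro hin
    have hin' := hsupp hin
    have hrg : Set.range (upPt f η v ξ').left ⊆ Set.range L.ι := by
      rintro _ ⟨c, rfl⟩
      rw [Subsingleton.elim (α := Spec (CommRingCat.of Ω)) c default]
      exact hin'
    let u' : Spec (CommRingCat.of Ω) ⟶ pullback p f := (upPt f η v ξ').left
    let l' : Spec (CommRingCat.of Ω) ⟶ L := IsOpenImmersion.lift L.ι u' hrg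
    have hl'f : l' ≫ L.ι = u' := IsOpenImmersion.lift_fac _ _ _
    have hl' : l' ≫ L.ι ≫ pullback.fst p f = ν := by
      rw [reassoc_of% hl'f]
      exact pullback.lift_fst _ _ _
    refine hne (Subtype.ext ?_)
    have e : l' ≫ L.ι ≫ pullback.snd p f = ξ'.1 := by
      rw [reassoc_of% hl'f]
      exact pullback.lift_snd _ _ _
    rw [← e, hluniq l' hl', ← hσ, reassoc_of% hlσ]
    exact Over.w w

open scoped DirectSum in
theorem bijective_components (F : EtCoh.Ab X) :
    ∃ d : DirectSum (Lifts f η) (fun ξ => (EtCoh.stalk ξ.1).obj F) →+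
        (EtCoh.stalk η).obj ((EtShriek.lowerShriek f).obj F),
      Function.Bijective d ∧ ∀ x ξ, comp f η F ξ (d x) = x ξ := by
  classical
  choose z hz hz' using exists_single f η F
  have uniq : ∀ z₁ z₂, (∀ k, comp f η F k z₁ = comp f η F k z₂) → z₁ = z₂ := fun z₁ z₂ h => by
    rw [← sub_eq_zero]
    exact eq_zero_of_comp f η F _ fun k => by rw [map_sub, h, sub_self]
  let inc : ∀ ξ : Lifts f η, ((EtCoh.stalk ξ.1).obj F) →+ (EtCoh.stalk η).obj ((EtShriek.lowerShriek f).obj F) :=
    fun ξ => AddMonoidHom.mk' (z ξ) fun a b => uniq _ _ fun k => by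
      by_cases hk : k = ξ
      · subst hk; rw [map_add, hz, hz, hz]
      · rw [map_add, hz' ξ _ k hk, hz' ξ _ k hk, hz' ξ _ k hk, add_zero]
  let d := DirectSum.toAddMonoid inc
  have hcomp : ∀ x ξ, comp f η F ξ (d x) = x ξ := by
    intro x k
    induction x using DirectSum.induction_on with
    | zero => rw [map_zero, map_zero]; rfl
    | add x y hx hy => rw [map_add, map_add, hx, hy, DirectSum.add_apply]
    | of i a =>
      rw [show d (DirectSum.of _ i a) = z i a from DirectSum.toAddMonoid_of inc i a]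
      by_cases h : k = i
      · subst h; rw [DirectSum.of_eq_same, hz]
      · rw [DirectSum.of_eq_of_ne _ _ _ h, hz' i a k h]
  refine ⟨d, ⟨fun x y h => DFinsupp.ext fun k => by rw [← hcomp, ← hcomp, h], fun q => ?_⟩, hcomp⟩
  refine ⟨DFinsupp.mk (finite_support f η F q).toFinset (fun k => comp f η F k.1 q), uniq _ _ fun k => ?_⟩
  rw [hcomp]
  by_cases hk : comp f η F k q = 0
  · rw [DFinsupp.mk_apply]
    split
    · rfl
    · exact hk.symm
  · rw [DFinsupp.mk_apply, dif_pos ((finite_support f η F q).mem_toFinset.mpr hk)]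

theorem nonempty_stalk_iso (F : EtCoh.Ab X) :
    Nonempty ((EtCoh.stalk η).obj ((EtShriek.lowerShriek f).obj F) ≅
      ∐ fun ξ : Lifts f η => (EtCoh.stalk ξ.1).obj F) := by
  classical
  obtain ⟨d, hd, -⟩ := bijective_components f η F
  let A : Lifts f η → AddCommGrpCat.{u + 1} := fun ξ => (EtCoh.stalk ξ.1).obj F
  let c : Cofan A := Cofan.mk (AddCommGrpCat.of (DirectSum (Lifts f η) fun ξ => A ξ))
    fun ξ => AddCommGrpCat.ofHom (DirectSum.of (fun ξ => A ξ) ξ)
  let hc : IsColimit c := mkCofanColimit c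
    (fun s => AddCommGrpCat.ofHom (DirectSum.toAddMonoid fun ξ => (s.inj ξ).hom))
    (fun s ξ => AddCommGrpCat.hom_ext (AddMonoidHom.ext fun a =>
      DirectSum.toAddMonoid_of (fun ξ => (s.inj ξ).hom) ξ a))
    (fun s m hm => AddCommGrpCat.hom_ext (DirectSum.addHom_ext fun ξ a => by
      refine (ConcreteCategory.congr_hom (hm ξ) a).trans ?_
      exact (DirectSum.toAddMonoid_of (fun ξ => (s.inj ξ).hom) ξ a).symm))
  exact ⟨(AddEquiv.ofBijective d hd).toAddCommGrpIso.symm ≪≫ hc.coconePointUniqueUpToIso (coproductIsCoproduct A)⟩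

end Groth.Agent.ShriekLQF
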