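import Groth.Agent.ShriekLQF.Stalk
import Groth.Agent.EtStalk.Sheaf
import Mathlib

/-!
The direct image with proper support along a separated locally quasi-finite morphism is exact.
-/

set_option autoImplicit false
set_option backward.isDefEq.respectTransparency false
set_option linter.style.haveILetI false

universe u

open CategoryTheory CategoryTheory.Limits AlgebraicGeometry Opposite

namespace Groth.Agent.ShriekLQF

open Groth.Agent.EtIntegral Groth.Agent.EtStalk

variable {X Y : Scheme.{u}}

/-- points with values in algebraically closed fields suffice -/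
theorem covers_algClosed : Covers (X := X) fun Ω _ _ _ => IsAlgClosed Ω := fun s => by
  obtain ⟨Ω, _, _, ξ, hξ⟩ := FEtRank.exists_geomPt s
  exact ⟨Ω, inferInstance, inferInstance, ξ, ‹_›, by
    rwa [Subsingleton.elim (α := Spec (CommRingCat.of Ω)) default (Groth.Agent.FEtGal.pt₀ Ω)]⟩

/-- algebraically closed geometric points -/
structure AlgPt (X : Scheme.{u}) : Type (u + 1) where
  /-- the field -/
  Ω : Type u
  [fld : Field Ω]
  [alg : IsAlgClosed Ω]
  /-- the point -/
  ξ : Spec (CommRingCat.of Ω) ⟶ X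

attribute [instance] AlgPt.fld AlgPt.alg

theorem isIso_of_algClosed {F G : EtCoh.Ab X} (a : F ⟶ G)
    (h : ∀ (Ω : Type u) [Field Ω] [IsAlgClosed Ω] (ξ : Spec (CommRingCat.of Ω) ⟶ X),
      IsIso ((EtCoh.stalk ξ).map a)) : IsIso a := by
  haveI : Sheaf.IsLocallyInjective a := isLocallyInjective_of_covers a.hom covers_algClosed
    fun Ω _ _ ξ hΩ => ((ConcreteCategory.isIso_iff_bijective _).mp (@h Ω _ hΩ ξ)).1
  haveI : Sheaf.IsLocallySurjective a := isLocallySurjective_of_covers a.hom covers_algClosed
    fun Ω _ _ ξ hΩ => ((ConcreteCategory.isIso_iff_bijective _).mp (@h Ω _ hΩ ξ)).2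
  haveI : Mono a := Sheaf.mono_of_isLocallyInjective a
  haveI : Epi a := inferInstance
  exact isIso_of_mono_of_epi a

theorem jointlyReflectIsomorphisms_algPt :
    JointlyReflectIsomorphisms (fun p : AlgPt X => EtCoh.stalk p.ξ) where
  isIso a h := isIso_of_algClosed a fun Ω _ _ ξ => h ⟨Ω, ξ⟩

variable (f : X ⟶ Y)

instance additive_lowerShriekPreFunctor : (EtShriek.lowerShriekPreFunctor f).Additive where
  map_add {F G a b} := by
    ext V ⟨s, hs⟩
    rfl

instance additive_lowerShriek : (EtShriek.lowerShriek f).Additive := inferInstance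

variable [IsSeparated f] [LocallyOfFiniteType f] [LocallyQuasiFinite f]

theorem preserves_exact (S : ShortComplex (EtCoh.Ab X)) (hS : S.Exact) :
    (S.map (EtShriek.lowerShriek f)).Exact := by
  refine (jointlyReflectIsomorphisms_algPt.exact_iff _).mpr fun p => ?_
  let η := p.ξ
  rw [ShortComplex.ab_exact_iff]
  intro z hz
  change (EtCoh.stalk η).map ((EtShriek.lowerShriek f).map S.g) z = 0 at hz
  have hk : ∀ ξ : Lifts f η, ∃ y, (EtCoh.stalk ξ.1).map S.f y = comp f η S.X₂ ξ z := fun ξ => by
    have h0 : (EtCoh.stalk ξ.1).map S.g (comp f η S.X₂ ξ z) = 0 := by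
      refine (ConcreteCategory.congr_hom (comp_natural f η S.g ξ) z).symm.trans ?_
      show comp f η S.X₃ ξ ((EtCoh.stalk η).map ((EtShriek.lowerShriek f).map S.g) z) = 0
      rw [hz, map_zero]
    exact (ShortComplex.ab_exact_iff _).mp ((Groth.Agent.EtStalk.exact_iff S).mp hS p.Ω ξ.1) _ h0
  choose y hy using hk
  classical
  obtain ⟨d, hd, hcomp⟩ := bijective_components f η S.X₁
  refine ⟨d (DFinsupp.mk (finite_support f η S.X₂ z).toFinset fun k => y k.1), ?_⟩
  change (EtCoh.stalk η).map ((EtShriek.lowerShriek f).map S.f) _ = z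
  rw [← sub_eq_zero]
  refine eq_zero_of_comp f η S.X₂ _ fun ξ => ?_
  rw [map_sub, sub_eq_zero]
  refine (ConcreteCategory.congr_hom (comp_natural f η S.f ξ) _).trans ?_
  show (EtCoh.stalk ξ.1).map S.f (comp f η S.X₁ ξ _) = _
  rw [hcomp, DFinsupp.mk_apply]
  split
  · exact hy ξ
  · next h =>
    rw [map_zero]
    by_contra hne
    exact h ((finite_support f η S.X₂ z).mem_toFinset.mpr fun h0 => hne h0.symm)

theorem preservesFiniteLimitsColimits :
    PreservesFiniteLimits (EtShriek.lowerShriek f) ∧ PreservesFiniteColimits (EtShriek.lowerShriek f) :=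
  ((EtShriek.lowerShriek f).exact_tfae.out 1 3).mp (preserves_exact f)

end Groth.Agent.ShriekLQF
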