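import Groth.Agent.ShriekLQF.Exact
import Mathlib

/-!
For a separated locally quasi-finite morphism the direct image with proper support is a left adjoint.
-/

set_option autoImplicit false
set_option backward.isDefEq.respectTransparency false
set_option linter.style.haveILetI false

universe u

open CategoryTheory CategoryTheory.Limits AlgebraicGeometry Opposite

namespace Groth.Agent.ShriekLQF

open Groth.Agent.EtIntegral Groth.Agent.EtStalk

theorem exists_eq_sum_of_cofan {I : Type (u + 1)} {A : I → AddCommGrpCat.{u + 1}} {c : Cofan A}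
    (hc : IsColimit c) (y : c.pt) : ∃ (s : Finset I) (a : ∀ i, A i), y = s.sum fun i => c.inj i (a i) := by
  classical
  let d : DirectSum I (fun i => A i) →+ c.pt := DirectSum.toAddMonoid fun i => (c.inj i).hom
  let e : c.pt ⟶ AddCommGrpCat.of (DirectSum I fun i => A i) :=
    hc.desc (Cofan.mk _ fun i => AddCommGrpCat.ofHom (DirectSum.of (fun i => A i) i))
  have he : e ≫ AddCommGrpCat.ofHom d = 𝟙 _ := hc.hom_ext fun ⟨i⟩ => by
    rw [← Category.assoc, IsColimit.fac]
    ext z
    exact DirectSum.toAddMonoid_of (fun i => (c.inj i).hom) i z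
  let x : DirectSum I (fun i => A i) := e y
  refine ⟨DFinsupp.support x, fun i => x i, ?_⟩
  have h1 : d x = y := ConcreteCategory.congr_hom he y
  calc y = d x := h1.symm
    _ = d ((DFinsupp.support x).sum fun i => DirectSum.of (fun i => A i) i (x i)) :=
        congrArg d (DirectSum.sum_support_of x).symm
    _ = _ := by
        rw [map_sum]
        exact Finset.sum_congr rfl fun i _ => DirectSum.toAddMonoid_of (fun i => (c.inj i).hom) i _

variable {X Y : Scheme.{u}} (f : X ⟶ Y) [IsSeparated f] [LocallyOfFiniteType f] [LocallyQuasiFinite f]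

theorem isIso_sigmaComparison {I : Type (u + 1)} (F : I → EtCoh.Ab X) :
    IsIso (sigmaComparison (EtShriek.lowerShriek f) F) := by
  classical
  let G := fun i => (EtShriek.lowerShriek f).obj (F i)
  refine isIso_of_algClosed _ fun Ω _ _ η => ?_
  rw [ConcreteCategory.isIso_iff_bijective]
  haveI hL : ∀ {Z : Scheme.{u}} (ξ : Spec (CommRingCat.of Ω) ⟶ Z),
      PreservesColimitsOfSize.{u + 1, u + 1} (EtCoh.stalk ξ) := fun ξ =>
    ((Scheme.pointSmallEtale ξ).skyscraperSheafAdjunction
      (A := AddCommGrpCat.{u + 1})).leftAdjoint_preservesColimits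
  let σ := (EtCoh.stalk η).map (sigmaComparison (EtShriek.lowerShriek f) F)
  let ι' : ∀ i, (EtCoh.stalk η).obj (G i) ⟶ (EtCoh.stalk η).obj (∐ G) := fun i =>
    (EtCoh.stalk η).map (Sigma.ι G i)
  have hcomp : ∀ i (ξ : Lifts f η) (w : (EtCoh.stalk η).obj (G i)),
      comp f η (∐ F) ξ (σ (ι' i w)) = (EtCoh.stalk ξ.1).map (Sigma.ι F i) (comp f η (F i) ξ w) := by
    intro i ξ w
    refine Eq.trans (congrArg _ ?_) (ConcreteCategory.congr_hom (comp_natural f η (Sigma.ι F i) ξ) w)
    rw [← ι_comp_sigmaComparison (EtShriek.lowerShriek f) F i, Functor.map_comp]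
    rfl
  constructor
  · rw [injective_iff_map_eq_zero]
    intro y hy
    obtain ⟨s, w, rfl⟩ := exists_eq_sum_of_cofan
      (isColimitCofanMkObjOfIsColimit (EtCoh.stalk η) _ _ (coproductIsCoproduct G)) y
    refine Finset.sum_eq_zero fun i hi => ?_
    suffices w i = 0 by rw [this, map_zero]
    refine eq_zero_of_comp f η (F i) _ fun ξ => ?_
    have h2 := congrArg (fun v => (EtCoh.stalk ξ.1).map (Sigma.π F i) (comp f η (∐ F) ξ v)) hy
    simp only [map_sum, map_zero] at h2
    rw [Finset.sum_eq_single i (fun k _ hk => by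
        show (EtCoh.stalk ξ.1).map (Sigma.π F i) (comp f η (∐ F) ξ (σ (ι' k (w k)))) = 0
        rw [hcomp, ← ConcreteCategory.comp_apply, ← Functor.map_comp, Sigma.ι_π_of_ne F hk, Functor.map_zero]
        rfl) (fun h => absurd hi h)] at h2
    refine Eq.trans ?_ h2
    show _ = (EtCoh.stalk ξ.1).map (Sigma.π F i) (comp f η (∐ F) ξ (σ (ι' i (w i))))
    rw [hcomp, ← ConcreteCategory.comp_apply ((EtCoh.stalk ξ.1).map (Sigma.ι F i)), ← Functor.map_comp,
      Sigma.ι_π_eq_id, CategoryTheory.Functor.map_id]
    rfl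
  · intro z
    let T := (finite_support f η (∐ F) z).toFinset
    have hs : ∀ ξ : Lifts f η, ∃ (s : Finset I) (a : ∀ i, (EtCoh.stalk ξ.1).obj (F i)),
        comp f η (∐ F) ξ z = s.sum fun i => (EtCoh.stalk ξ.1).map (Sigma.ι F i) (a i) := fun ξ =>
      exists_eq_sum_of_cofan (isColimitCofanMkObjOfIsColimit (EtCoh.stalk ξ.1) _ _ (coproductIsCoproduct F)) _
    choose s a ha using hs
    choose w hw hw' using fun i => exists_single f η (F i)
    refine ⟨T.sum fun ξ => (s ξ).sum fun i => ι' i (w i ξ (a ξ i)), ?_⟩
    rw [← sub_eq_zero]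
    refine eq_zero_of_comp f η _ _ fun k => ?_
    rw [map_sub, sub_eq_zero, map_sum, map_sum]
    rw [Finset.sum_eq_single k (fun ξ _ hne => by
        rw [map_sum, map_sum]
        refine Finset.sum_eq_zero fun i _ => ?_
        show comp f η (∐ F) k (σ (ι' i (w i ξ (a ξ i)))) = 0
        rw [hcomp, hw' i ξ _ k (Ne.symm hne), map_zero]) (fun hkT => by
        rw [map_sum, map_sum]
        show (s k).sum (fun i => comp f η (∐ F) k (σ (ι' i (w i k (a k i))))) = 0
        simp only [hcomp, hw]
        rw [← ha]
        by_contra hne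
        exact hkT ((finite_support f η (∐ F) z).mem_toFinset.mpr hne))]
    rw [map_sum, map_sum]
    show (s k).sum (fun i => comp f η (∐ F) k (σ (ι' i (w i k (a k i))))) = _
    simp only [hcomp, hw]
    exact (ha k).symm

theorem preservesColimits : PreservesColimitsOfSize.{u + 1, u + 1} (EtShriek.lowerShriek f) := by
  haveI := (preservesFiniteLimitsColimits f).2
  haveI : ∀ I : Type (u + 1), PreservesColimitsOfShape (Discrete I) (EtShriek.lowerShriek f) := fun I =>
    { preservesColimit := fun {K} => by
        haveI := isIso_sigmaComparison f (fun i => K.obj ⟨i⟩)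
        haveI : PreservesColimit (Discrete.functor (K.obj ∘ Discrete.mk)) (EtShriek.lowerShriek f) :=
          PreservesCoproduct.of_iso_comparison (EtShriek.lowerShriek f) (fun i => K.obj ⟨i⟩)
        exact preservesColimit_of_iso_diagram _ Discrete.natIsoFunctor.symm }
  exact preservesColimits_of_preservesCoequalizers_and_coproducts _

theorem isLeftAdjoint : (EtShriek.lowerShriek f).IsLeftAdjoint := by
  haveI := preservesColimits f
  exact isLeftAdjoint_of_preservesColimits_of_isSeparating (isSeparator_separator (EtCoh.Ab X)) _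

end Groth.Agent.ShriekLQF
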