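import Groth.Agent.ShriekLQF.Sheaf
import Mathlib

/-!
Sections of the direct image with proper support inside the direct image; comparison of subsheaves.
-/

set_option autoImplicit false
set_option backward.isDefEq.respectTransparency false
set_option linter.style.haveILetI false

universe u

open CategoryTheory CategoryTheory.Limits AlgebraicGeometry Opposite

namespace Groth.Agent.ShriekLQF

variable {X Y : Scheme.{u}}

theorem range_toPush (f : X ⟶ Y) [LocallyOfFiniteType f] (F : EtCoh.Ab X) (V : Y.Etale)
    (s : EtCoh.sect F ((EtCoh.bc f).obj V)) :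
    (∃ z, (EtShriek.lowerShriekToPush f F).hom.app (op V) z = s) ↔
      ClSub.IsProperOver (EtShriek.prV f V) (EtShriek.sectSupp F _ s) := by
  have e : toSheafify Y.smallEtaleTopology (EtShriek.lowerShriekPre f F) ≫ (EtShriek.lowerShriekToPush f F).hom =
      EtShriek.lowerShriekPreι f F :=
    toSheafify_sheafifyLift Y.smallEtaleTopology _ ((EtCoh.push f).obj F).property
  have e' := fun t => ConcreteCategory.congr_hom (congrArg (fun k => k.app (op V)) e) t
  haveI := isIso_toSheafify Y.smallEtaleTopology (isSheaf_lowerShriekPre f F)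
  have hsurj := ((ConcreteCategory.isIso_iff_bijective
    ((toSheafify Y.smallEtaleTopology (EtShriek.lowerShriekPre f F)).app (op V))).mp inferInstance).2
  rw [← mem_shriekSubgroup_iff]
  constructor
  · rintro ⟨z, rfl⟩
    obtain ⟨t, rfl⟩ := hsurj z
    exact (e' t).symm ▸ t.2
  · intro hs
    exact ⟨(toSheafify Y.smallEtaleTopology (EtShriek.lowerShriekPre f F)).app (op V) ⟨s, hs⟩, e' ⟨s, hs⟩⟩

theorem mono_iff_app_injective {A G : EtCoh.Ab X} (a : A ⟶ G) [Mono a] (V : X.Etale) :
    Function.Injective (a.hom.app (op V)) := by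
  haveI : Mono a.hom := inferInstanceAs (Mono ((sheafToPresheaf _ _).map a))
  exact (AddCommGrpCat.mono_iff_injective _).mp inferInstance

/-- subsheaves with the same sections are isomorphic -/
theorem exists_hom_of_range_le {A B G : EtCoh.Ab X} (a : A ⟶ G) (b : B ⟶ G) [Mono b]
    (h : ∀ V : X.Etale, ∀ z, ∃ w, b.hom.app (op V) w = a.hom.app (op V) z) :
    ∃ φ : A ⟶ B, φ ≫ b = a := by
  choose w hw using h
  have hinj := fun V => mono_iff_app_injective b V
  let φ : A.obj ⟶ B.obj :=
    { app := fun V => AddCommGrpCat.ofHom (AddMonoidHom.mk' (w V.unop) fun x y => hinj V.unop (by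
        rw [map_add, hw, hw, hw, map_add]))
      naturality := fun {V V'} m => by
        refine AddCommGrpCat.hom_ext (AddMonoidHom.ext fun x => hinj V'.unop ?_)
        change b.hom.app V' (w V'.unop (A.obj.map m x)) = b.hom.app V' (B.obj.map m (w V.unop x))
        rw [NatTrans.naturality_apply]
        exact (hw V'.unop _).trans ((NatTrans.naturality_apply a.hom m x).trans (congrArg _ (hw V.unop x)).symm) }
  exact ⟨⟨φ⟩, Sheaf.hom_ext (NatTrans.ext (funext fun V => AddCommGrpCat.hom_ext (AddMonoidHom.ext fun x => hw V.unop x)))⟩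

/-- natural version -/
theorem nonempty_natIso {C : Type*} [Category C] {P Q G : C ⥤ EtCoh.Ab X} (a : P ⟶ G) (b : Q ⟶ G)
    [∀ c, Mono (a.app c)] [∀ c, Mono (b.app c)]
    (h : ∀ c (V : X.Etale) s, (∃ z, (a.app c).hom.app (op V) z = s) ↔ ∃ z, (b.app c).hom.app (op V) z = s) :
    Nonempty (P ≅ Q) := by
  choose φ hφ using fun c => exists_hom_of_range_le (a.app c) (b.app c) fun V z => (h c V _).mp ⟨z, rfl⟩
  choose ψ hψ using fun c => exists_hom_of_range_le (b.app c) (a.app c) fun V z => (h c V _).mpr ⟨z, rfl⟩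
  refine ⟨NatIso.ofComponents (fun c => ⟨φ c, ψ c, ?_, ?_⟩) fun {c c'} m => ?_⟩
  · rw [← cancel_mono (a.app c), Category.assoc, hψ, hφ, Category.id_comp]
  · rw [← cancel_mono (b.app c), Category.assoc, hφ, hψ, Category.id_comp]
  · change P.map m ≫ φ c' = φ c ≫ Q.map m
    rw [← cancel_mono (b.app c'), Category.assoc, Category.assoc, hφ, b.naturality, reassoc_of% hφ, a.naturality]

end Groth.Agent.ShriekLQF
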